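import Mathlib

/-!
# Arithmetic for the Suzuki and Ree groups
-/

set_option autoImplicit false

namespace Cfsg.Agent.H368.SNum

theorem fac {p a b N : ℕ} (hp : p.Prime) (h : N = p ^ a * b) (hb : ¬ p ∣ b) :
    N.factorization p = a := by
  have hb0 : b ≠ 0 := by rintro rfl; exact hb (dvd_zero p)
  rw [h, Nat.factorization_mul (pow_ne_zero _ hp.ne_zero) hb0, Nat.Prime.factorization_pow hp]
  simp [Nat.factorization_eq_zero_of_not_dvd hb]

theorem part_dvd {r b c N : ℕ} (hr : r.Prime) (h : N = c * b) (hc : ¬ r ∣ c) :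
    r ^ N.factorization r ∣ b := by
  have h1 : r ^ N.factorization r ∣ c * b := by rw [← h]; exact Nat.ordProj_dvd N r
  have h2 : (r ^ N.factorization r).Coprime c := Nat.Coprime.pow_left _ ((Nat.Prime.coprime_iff_not_dvd hr).2 hc)
  exact h2.dvd_of_dvd_mul_left h1

/-- the sizes of the factors -/
theorem sub_mul {x : ℕ} : x ^ 2 - 1 = (x - 1) * (x + 1) := by
  rcases Nat.eq_zero_or_pos x with rfl | hx
  · rfl
  · obtain ⟨y, rfl⟩ : ∃ y, x = y + 1 := ⟨x - 1, by omega⟩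
    simp only [Nat.add_sub_cancel]
    have : (y + 1) ^ 2 = y * (y + 1 + 1) + 1 := by ring
    rw [this, Nat.add_sub_cancel]

/-- divisibility of `x^i + 1` -/
theorem not_dvd_add {r p k n : ℕ} (h : ∀ m, r ∣ p ^ m - 1 → n ∣ m) (hk : 1 ≤ k) (hn : 2 * k < n) :
    ¬ r ∣ p ^ k + 1 := by
  intro h1
  have h2 : r ∣ p ^ (2 * k) - 1 := by
    rw [mul_comm 2 k, pow_mul, sub_mul]
    exact dvd_mul_of_dvd_right h1 _
  have h3 := Nat.le_of_dvd (by omega) (h _ h2)
  omega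

theorem not_dvd_sub {r p k n : ℕ} (h : ∀ m, r ∣ p ^ m - 1 → n ∣ m) (hk : 1 ≤ k) (hn : k < n) :
    ¬ r ∣ p ^ k - 1 := by
  intro h1
  have h3 := Nat.le_of_dvd (by omega) (h _ h1)
  omega

end Cfsg.Agent.H368.SNum
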