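import Cfsg.Agent.TypeD4Two.FieldIso
import Cfsg.Prelude.Def_Sz

/-!
# The Suzuki and Ree groups over fields with the same number of elements
-/

set_option autoImplicit false

namespace Cfsg.Agent.H368.TwIso

open Cfsg.Lie Cfsg.Agent.TypeD4Two.FieldIso

variable {F K : Type*} [Field F] [Field K] (σ : F ≃+* K)

theorem f4Words_map (e : ℕ) : mapW σ '' f4Words F e = f4Words K e := by
  apply Set.eq_of_subset_of_subset
  · rintro _ ⟨w, hw, rfl⟩
    rcases hw with ⟨t, rfl | rfl⟩ | ⟨t, u, rfl | rfl⟩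
    · exact Or.inl ⟨σ t, Or.inl (by simp [mapW, f4PairWord])⟩
    · exact Or.inl ⟨σ t, Or.inr (by simp [mapW, f4PairWord])⟩
    · exact Or.inr ⟨σ t, σ u, Or.inl (by simp [mapW, b2ClassWord])⟩
    · exact Or.inr ⟨σ t, σ u, Or.inr (by simp [mapW, b2ClassWord])⟩
  · rintro w hw
    rcases hw with ⟨t, rfl | rfl⟩ | ⟨t, u, rfl | rfl⟩
    · exact ⟨_, Or.inl ⟨σ.symm t, Or.inl rfl⟩, by simp [mapW, f4PairWord]⟩
    · exact ⟨_, Or.inl ⟨σ.symm t, Or.inr rfl⟩, by simp [mapW, f4PairWord]⟩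
    · exact ⟨_, Or.inr ⟨σ.symm t, σ.symm u, Or.inl rfl⟩, by simp [mapW, b2ClassWord]⟩
    · exact ⟨_, Or.inr ⟨σ.symm t, σ.symm u, Or.inr rfl⟩, by simp [mapW, b2ClassWord]⟩

theorem g2Words_map (e : ℕ) : mapW σ '' g2Words F e = g2Words K e := by
  apply Set.eq_of_subset_of_subset
  · rintro _ ⟨w, ⟨t, u, v, rfl | rfl⟩, rfl⟩
    · exact ⟨σ t, σ u, σ v, Or.inl (by simp [mapW, reeWordU])⟩
    · exact ⟨σ t, σ u, σ v, Or.inr (by simp [mapW, reeWordV, reeWordU, ChevalleyDatum.negWord])⟩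
  · rintro w ⟨t, u, v, rfl | rfl⟩
    · exact ⟨_, ⟨σ.symm t, σ.symm u, σ.symm v, Or.inl rfl⟩, by simp [mapW, reeWordU]⟩
    · exact ⟨_, ⟨σ.symm t, σ.symm u, σ.symm v, Or.inr rfl⟩, by
        simp [mapW, reeWordV, reeWordU, ChevalleyDatum.negWord]⟩

theorem twistedF4_congr [Fintype F] [Fintype K] (h : Fintype.card F = Fintype.card K) (e : ℕ) :
    Nonempty (twistedF4 F e ≃* twistedF4 K e) := by
  let σ := FiniteField.ringEquivOfCardEq h
  exact ⟨((twistedF4 F e).equivMapOfInjective _ (map_injective' σ chevF4)).trans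
    (MulEquiv.subgroupCongr (by
      unfold twistedF4
      rw [genSubgroup_map, f4Words_map]))⟩

theorem twistedG2_congr [Fintype F] [Fintype K] (h : Fintype.card F = Fintype.card K) (e : ℕ) :
    Nonempty (twistedG2 F e ≃* twistedG2 K e) := by
  let σ := FiniteField.ringEquivOfCardEq h
  exact ⟨((twistedG2 F e).equivMapOfInjective _ (map_injective' σ chevG2)).trans
    (MulEquiv.subgroupCongr (by
      unfold twistedG2
      rw [genSubgroup_map, g2Words_map]))⟩

theorem map_mulVec' {ι : Type} [Fintype ι] (M : Matrix ι ι F) (u : ι → K) :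
    (M.map σ).mulVec u = fun i => σ (M.mulVec (fun j => σ.symm (u j)) i) := by
  funext i
  simp [Matrix.mulVec, dotProduct]

theorem mem_Sp4_map {g : GL (Fin 4) F} (hg : g ∈ Sp4 F) :
    Matrix.GeneralLinearGroup.map (n := Fin 4) σ.toRingHom g ∈ Sp4 K := by
  intro u v
  have h1 : ((Units.coeHom (Matrix (Fin 4) (Fin 4) K))
      (Matrix.GeneralLinearGroup.map (n := Fin 4) σ.toRingHom g)) =
      (g : Matrix (Fin 4) (Fin 4) F).map σ := rfl
  have hf : ∀ x y : Fin 4 → F, altForm4 (fun i => σ (x i)) (fun i => σ (y i)) = σ (altForm4 x y) := by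
    intro x y
    simp [altForm4]
  rw [h1, map_mulVec', map_mulVec', hf]
  have h2 := hg (fun j => σ.symm (u j)) (fun j => σ.symm (v j))
  change altForm4 ((g : Matrix (Fin 4) (Fin 4) F).mulVec _) ((g : Matrix (Fin 4) (Fin 4) F).mulVec _) = _ at h2
  rw [h2, ← hf]
  simp

theorem star4_map (g : Matrix (Fin 4) (Fin 4) F) : star4 (g.map σ) = (star4 g).map σ := by
  ext p r
  simp [star4]

theorem Sz_map (e : ℕ) : (Sz F e).map (Matrix.GeneralLinearGroup.map (n := Fin 4) σ.toRingHom) = Sz K e := by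
  unfold Sz
  rw [MonoidHom.map_closure]
  congr 1
  ext g
  constructor
  · rintro ⟨g, ⟨hg, hs⟩, rfl⟩
    refine ⟨mem_Sp4_map σ hg, ?_⟩
    change star4 ((g : Matrix (Fin 4) (Fin 4) F).map σ) = ((g : Matrix (Fin 4) (Fin 4) F).map σ).map _
    rw [star4_map, hs]
    ext i j
    simp
  · rintro ⟨hg, hs⟩
    refine ⟨Matrix.GeneralLinearGroup.map (n := Fin 4) σ.symm.toRingHom g, ⟨mem_Sp4_map σ.symm hg, ?_⟩, ?_⟩
    · change star4 ((g : Matrix (Fin 4) (Fin 4) K).map σ.symm) =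
        ((g : Matrix (Fin 4) (Fin 4) K).map σ.symm).map _
      rw [star4_map, hs]
      ext i j
      simp
    · apply Units.ext
      ext i j
      change σ (σ.symm ((g : Matrix (Fin 4) (Fin 4) K) i j)) = _
      rw [σ.apply_symm_apply]

theorem map_injective4 : Function.Injective (Matrix.GeneralLinearGroup.map (n := Fin 4) σ.toRingHom) := by
  intro g h hgh
  apply Units.ext
  ext i j
  have h1 := congrFun (congrFun (congrArg (fun x : GL (Fin 4) K => (x : Matrix (Fin 4) (Fin 4) K)) hgh) i) j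
  exact σ.injective h1

theorem Sz_congr [Fintype F] [Fintype K] (h : Fintype.card F = Fintype.card K) (e : ℕ) :
    Nonempty (Sz F e ≃* Sz K e) := by
  let σ := FiniteField.ringEquivOfCardEq h
  exact ⟨((Sz F e).equivMapOfInjective _ (map_injective4 σ)).trans
    (MulEquiv.subgroupCongr (Sz_map σ e))⟩

end Cfsg.Agent.H368.TwIso
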