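import Cfsg.Agent.H368.SRed
import Cfsg.Agent.H368.SNum
import Cfsg.Agent.H368.TwIso
import Cfsg.Agent.OrdDiv.Table

/-!
# Ends of the recognition of Suzuki and Ree groups by order and spectrum
-/

set_option autoImplicit false

open Subgroup Cfsg Cfsg.Agent

namespace Cfsg.Agent.H368.SEnd

open Cfsg.Agent.H368.SNum Cfsg.Agent.H368.TwIso

/-- a section of order `|G|` -/
theorem equiv_of_card {G : Type*} [Group G] [Finite G] (R : Subgroup G) [R.Normal]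
    (S : Subgroup (G ⧸ R)) (h : Nat.card S = Nat.card G) : Nonempty (G ≃* S) := by
  have h1 := Subgroup.card_eq_card_quotient_mul_card_subgroup R
  have h2 := Subgroup.card_mul_index S
  have h3 : 0 < Nat.card G := Nat.card_pos
  rw [← h2, h, mul_assoc] at h1
  have h4 : S.index * Nat.card R = 1 := by
    have h5 : Nat.card G * (S.index * Nat.card R) = Nat.card G * 1 := by rw [mul_one]; exact h1.symm
    exact Nat.eq_of_mul_eq_mul_left h3 h5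
  have h5 := Nat.eq_one_of_mul_eq_one_right h4
  have h6 := Nat.eq_one_of_mul_eq_one_left h4
  have hR : R = ⊥ := Subgroup.eq_bot_of_card_eq R (by assumption)
  have hS : S = ⊤ := Subgroup.index_eq_one.1 (by assumption)
  subst hR
  exact ⟨(QuotientGroup.quotientBot.symm).trans ((Subgroup.topEquiv.symm).trans (MulEquiv.subgroupCongr hS.symm))⟩

theorem two_not_dvd {x : ℕ} (h : x % 2 = 1) : ¬ 2 ∣ x := by omega

theorem pow_two_mod {a : ℕ} (ha : 1 ≤ a) : 2 ^ a % 2 = 0 := by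
  obtain ⟨b, rfl⟩ : ∃ b, a = b + 1 := ⟨a - 1, by omega⟩
  rw [pow_succ]; omega

/-! ### Suzuki groups -/

theorem card_sz {M : Type*} [Group M] (hM : Lie.IsoSuzuki M) : ∃ m, 1 ≤ m ∧
    (∃ (F : Type) (_ : Field F) (_ : Fintype F), Fintype.card F = 2 ^ (2 * m + 1) ∧
      Nonempty (M ≃* Lie.Sz F (2 ^ (m + 1)))) ∧
    Nat.card M = 2 ^ (2 * (2 * m + 1)) * ((2 ^ (2 * m + 1) - 1) * ((2 ^ (2 * m + 1)) ^ 2 + 1)) ∧
      (Nat.card M).factorization 2 = 2 * (2 * m + 1) := by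
  obtain ⟨F, i1, i2, m, hm, hF, ⟨e⟩⟩ := hM
  have h1 := OrdDiv.table.{0}.sz F m hm hF
  rw [← Nat.card_congr e.toEquiv] at h1
  have h2 : Nat.card M = 2 ^ (2 * (2 * m + 1)) * ((2 ^ (2 * m + 1) - 1) * ((2 ^ (2 * m + 1)) ^ 2 + 1)) := by
    rw [h1, mul_comm 2 (2 * m + 1), pow_mul, mul_assoc]
  refine ⟨m, hm, ⟨F, i1, i2, hF, ⟨e⟩⟩, h2, fac Nat.prime_two h2 ?_⟩
  have h3 := pow_two_mod (a := 2 * m + 1) (by omega)
  have h4 : 0 < 2 ^ (2 * m + 1) := by positivity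
  rw [Nat.Prime.dvd_mul Nat.prime_two]
  rintro (h | h)
  · omega
  · have h5 : (2 ^ (2 * m + 1)) ^ 2 % 2 = 0 := by
      rw [← pow_mul]; exact pow_two_mod (by omega)
    omega

/-- Suzuki groups of the same order are isomorphic. -/
theorem sz_iso {M S : Type*} [Group M] [Group S] (hM : Lie.IsoSuzuki M) (hS : Lie.IsoSuzuki S)
    (h : (Nat.card S).factorization 2 = (Nat.card M).factorization 2) :
    Nat.card S = Nat.card M ∧ Nonempty (S ≃* M) := by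
  obtain ⟨m, hm, ⟨F, i1, i2, hF, ⟨e⟩⟩, h1, h2⟩ := card_sz hM
  obtain ⟨n, hn, ⟨K, j1, j2, hK, ⟨f⟩⟩, h3, h4⟩ := card_sz hS
  have h5 : n = m := by omega
  subst h5
  refine ⟨by rw [h1, h3], ?_⟩
  obtain ⟨g⟩ := Sz_congr (F := K) (K := F) (by rw [hF, hK]) (2 ^ (n + 1))
  exact ⟨f.trans (g.trans e.symm)⟩

/-! ### Small Ree groups -/

theorem three_pow_mod (m : ℕ) : 3 ^ (2 * m + 1) % 8 = 3 := by
  induction m with
  | zero => rfl
  | succ m ih =>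
    have : 3 ^ (2 * (m + 1) + 1) = 9 * 3 ^ (2 * m + 1) := by ring
    omega

theorem card_ree {M : Type*} [Group M] (hM : Lie.IsoRee M) : ∃ m, 1 ≤ m ∧
    (∃ (F : Type) (_ : Field F) (_ : Fintype F), Fintype.card F = 3 ^ (2 * m + 1) ∧
      Nonempty (M ≃* Lie.twistedG2 F (3 ^ m))) ∧
    Nat.card M = 3 ^ (3 * (2 * m + 1)) * ((3 ^ (2 * m + 1) - 1) * ((3 ^ (2 * m + 1)) ^ 3 + 1)) ∧
      (Nat.card M).factorization 3 = 3 * (2 * m + 1) ∧ (Nat.card M).factorization 2 = 3 := by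
  obtain ⟨F, i1, i2, m, hm, hF, ⟨e⟩⟩ := hM
  have h1 := OrdDiv.table.{0}.ree F m hm hF
  rw [← Nat.card_congr e.toEquiv] at h1
  have h2 : Nat.card M = 3 ^ (3 * (2 * m + 1)) * ((3 ^ (2 * m + 1) - 1) * ((3 ^ (2 * m + 1)) ^ 3 + 1)) := by
    rw [h1, mul_comm 3 (2 * m + 1), pow_mul, mul_assoc]
  have h3 := three_pow_mod m
  have h4 : 3 ^ (2 * m + 1) % 3 = 0 := by rw [pow_succ]; omega
  have h5 : (3 ^ (2 * m + 1)) ^ 3 % 3 = 0 := by
    rw [← pow_mul, mul_comm, pow_mul, Nat.pow_mod]; rfl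
  refine ⟨m, hm, ⟨F, i1, i2, hF, ⟨e⟩⟩, h2, fac Nat.prime_three h2 ?_, ?_⟩
  · rw [Nat.Prime.dvd_mul Nat.prime_three]
    rintro (h | h)
    · omega
    · omega
  · obtain ⟨x, hx⟩ : ∃ x, 3 ^ (2 * m + 1) = 8 * x + 3 := ⟨3 ^ (2 * m + 1) / 8, by omega⟩
    refine fac (b := 3 ^ (3 * (2 * m + 1)) * ((4 * x + 1) * (128 * x ^ 3 + 144 * x ^ 2 + 54 * x + 7)))
      Nat.prime_two ?_ ?_
    · rw [h2, hx, show 8 * x + 3 - 1 = 2 * (4 * x + 1) by omega]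
      ring
    · rw [Nat.Prime.dvd_mul Nat.prime_two, Nat.Prime.dvd_mul Nat.prime_two]
      rintro (h | h | h)
      · have := Nat.prime_two.dvd_of_dvd_pow h
        omega
      · omega
      · omega

theorem ree_iso {M S : Type*} [Group M] [Group S] (hM : Lie.IsoRee M) (hS : Lie.IsoRee S)
    (h : (Nat.card S).factorization 3 = (Nat.card M).factorization 3) :
    Nat.card S = Nat.card M ∧ Nonempty (S ≃* M) := by
  obtain ⟨m, hm, ⟨F, i1, i2, hF, ⟨e⟩⟩, h1, h2, -⟩ := card_ree hM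
  obtain ⟨n, hn, ⟨K, j1, j2, hK, ⟨f⟩⟩, h3, h4, -⟩ := card_ree hS
  have h5 : n = m := by omega
  subst h5
  refine ⟨by rw [h1, h3], ?_⟩
  obtain ⟨g⟩ := twistedG2_congr (F := K) (K := F) (by rw [hF, hK]) (3 ^ n)
  exact ⟨f.trans (g.trans e.symm)⟩

/-! ### Large Ree groups -/

theorem card_twoF4 {M : Type*} [Group M] (hM : Lie.Iso2F4 M) : ∃ m, 1 ≤ m ∧
    (∃ (F : Type) (_ : Field F) (_ : Fintype F), Fintype.card F = 2 ^ (2 * m + 1) ∧
      Nonempty (M ≃* Lie.twistedF4 F (2 ^ m))) ∧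
    Nat.card M = 2 ^ (12 * (2 * m + 1)) * ((2 ^ (2 * m + 1) - 1) * ((2 ^ (2 * m + 1)) ^ 3 + 1) *
      ((2 ^ (2 * m + 1)) ^ 4 - 1) * ((2 ^ (2 * m + 1)) ^ 6 + 1)) ∧
      (Nat.card M).factorization 2 = 12 * (2 * m + 1) := by
  obtain ⟨F, i1, i2, m, hm, hF, ⟨e⟩⟩ := hM
  have h1 := OrdDiv.table.{0}.tf4 F m hm hF
  rw [← Nat.card_congr e.toEquiv] at h1
  have h2 : Nat.card M = 2 ^ (12 * (2 * m + 1)) * ((2 ^ (2 * m + 1) - 1) * ((2 ^ (2 * m + 1)) ^ 3 + 1) *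
      ((2 ^ (2 * m + 1)) ^ 4 - 1) * ((2 ^ (2 * m + 1)) ^ 6 + 1)) := by
    rw [h1, mul_comm 12 (2 * m + 1), pow_mul]
    ring
  refine ⟨m, hm, ⟨F, i1, i2, hF, ⟨e⟩⟩, h2, fac Nat.prime_two h2 ?_⟩
  have h3 := pow_two_mod (a := 2 * m + 1) (by omega)
  have h4 : 0 < 2 ^ (2 * m + 1) := by positivity
  have hk : ∀ k, 1 ≤ k → (2 ^ (2 * m + 1)) ^ k % 2 = 0 ∧ 0 < (2 ^ (2 * m + 1)) ^ k := by
    intro k hk
    refine ⟨?_, by positivity⟩
    rw [← pow_mul]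
    exact pow_two_mod (Nat.mul_pos (by omega) (by omega))
  have h3' := hk 3 (by norm_num)
  have h4' := hk 4 (by norm_num)
  have h6' := hk 6 (by norm_num)
  rw [Nat.Prime.dvd_mul Nat.prime_two, Nat.Prime.dvd_mul Nat.prime_two, Nat.Prime.dvd_mul Nat.prime_two]
  rintro (((h | h) | h) | h) <;> omega

theorem twoF4_iso {M S : Type*} [Group M] [Group S] (hM : Lie.Iso2F4 M) (hS : Lie.Iso2F4 S)
    (h : (Nat.card S).factorization 2 = (Nat.card M).factorization 2) :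
    Nat.card S = Nat.card M ∧ Nonempty (S ≃* M) := by
  obtain ⟨m, hm, ⟨F, i1, i2, hF, ⟨e⟩⟩, h1, h2⟩ := card_twoF4 hM
  obtain ⟨n, hn, ⟨K, j1, j2, hK, ⟨f⟩⟩, h3, h4⟩ := card_twoF4 hS
  have h5 : n = m := by omega
  subst h5
  refine ⟨by rw [h1, h3], ?_⟩
  obtain ⟨g⟩ := twistedF4_congr (F := K) (K := F) (by rw [hF, hK]) (2 ^ n)
  exact ⟨f.trans (g.trans e.symm)⟩

end Cfsg.Agent.H368.SEnd
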