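import Cfsg.Agent.H366.Coclique
import Cfsg.Agent.SignalizersComponents.BalEndSz
import Cfsg.Agent.EvenType.CharTwoCent
import Cfsg.Agent.BenderMod.Bound
import Cfsg.Agent.Lib.Cores

/-!
# Non-adjacency of `2` and `r` in groups of characteristic two type
-/

set_option autoImplicit false

open Subgroup Cfsg Cfsg.Agent Cfsg.Agent.H366.Coclique

namespace Cfsg.Agent.H368.SFacts

theorem exists_comm {G : Type*} [Group G] [Finite G] {r : ℕ} (hr : r.Prime) {g : G}
    (hg : orderOf g = 2 * r) : ∃ t x : G, orderOf t = 2 ∧ orderOf x = r ∧ t * x = x * t := by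
  refine ⟨g ^ r, g ^ 2, ?_, ?_, ?_⟩
  · rw [orderOf_pow_of_dvd hr.ne_zero (by rw [hg]; exact Dvd.intro_left _ rfl), hg,
      Nat.mul_div_cancel _ hr.pos]
  · rw [orderOf_pow_of_dvd two_ne_zero (by rw [hg]; exact Dvd.intro _ rfl), hg,
      Nat.mul_div_cancel_left _ two_pos]
  · exact ((Commute.refl g).pow_pow r 2).eq

/-- In a Suzuki group there is no element of order `2 r`. -/
theorem na_suzuki {G : Type*} [Group G] [Finite G] (h : Lie.IsoSuzuki G) {r : ℕ} (hr : r.Prime)
    (hr2 : r ≠ 2) : NA G 2 r := by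
  intro g hg
  obtain ⟨t, x, ht, hx, hc⟩ := exists_comm hr hg
  have hp := SignalizersComponents.BalEndSz.isPGroup_centralizer_suzuki h ht
  obtain ⟨k, hk⟩ := hp ⟨x, mem_centralizer_singleton_iff.2 hc.symm⟩
  have h1 : x ^ 2 ^ k = 1 := congrArg Subtype.val hk
  have h2 := orderOf_dvd_of_pow_eq_one h1
  rw [hx] at h2
  exact hr2 ((Nat.prime_dvd_prime_iff_eq hr Nat.prime_two).1 (hr.dvd_of_dvd_pow h2))

/-- In a group of characteristic two type whose order is not divisible by a large power of `2` there is no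
element of order `2 r`, `r` a primitive prime divisor. -/
theorem na_of_char2 {G : Type*} [Group G] [Finite G] (h : IsCharacteristicTwoType G) {r n : ℕ}
    (hr : r.Prime) (hr2 : r ≠ 2) (hprim : ∀ m, r ∣ 2 ^ m - 1 → n ∣ m)
    (hn : (Nat.card G).factorization 2 ≤ n) : NA G 2 r := by
  intro g hg
  obtain ⟨t, x, ht, hx, hc⟩ := exists_comm hr hg
  have h2 : Fact (Nat.Prime 2) := ⟨Nat.prime_two⟩
  have hch := EvenType.CharTwoCent.char2_centralizer h ht
  set C := centralizer ({t} : Set G) with hC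
  let tC : C := ⟨t, mem_centralizer_singleton_iff.2 rfl⟩
  let xC : C := ⟨x, mem_centralizer_singleton_iff.2 hc.symm⟩
  have hxC : orderOf xC = r := by rw [← hx, ← Subgroup.orderOf_coe]
  set Q := pCore 2 C with hQ
  have hQp : IsPGroup 2 Q := Lib.Cores.pCore_isPGroup 2
  have htQ : tC ∈ Q := by
    apply hch
    rw [mem_centralizer_iff]
    intro y _
    exact Subtype.ext (mem_centralizer_singleton_iff.1 y.2)
  have hQn : Q.Normal := by rw [hQ]; infer_instance
  -- the action of `x` on `Q`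
  let c : MulAut Q := MulAut.conjNormal xC
  have hcr : c ^ r = 1 := by
    rw [← map_pow, ← hxC, pow_orderOf_eq_one, map_one]
  have hc1 : c ≠ 1 := by
    intro h1
    have h3 : xC ∈ Q := by
      apply hch
      rw [mem_centralizer_iff]
      intro y hy
      have h4 : (c ⟨y, hy⟩ : Q) = ⟨y, hy⟩ := by rw [h1]; rfl
      have h5 : xC * y * xC⁻¹ = y := congrArg Subtype.val h4
      rw [mul_inv_eq_iff_eq_mul] at h5
      exact h5.symm
    obtain ⟨k, hk⟩ := hQp ⟨xC, h3⟩
    have h4 : xC ^ 2 ^ k = 1 := congrArg Subtype.val hk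
    have h5 := orderOf_dvd_of_pow_eq_one h4
    rw [hxC] at h5
    exact hr2 ((Nat.prime_dvd_prime_iff_eq hr Nat.prime_two).1 (hr.dvd_of_dvd_pow h5))
  have hco : orderOf c = r := by
    have : Fact r.Prime := ⟨hr⟩
    exact orderOf_eq_prime hcr hc1
  have h3 := BenderMod.dvd_card_sub (M := Q) hr (le_refl 1) (c := c) (by rw [hco, pow_one])
  simp only [pow_one, Nat.sub_self, pow_zero] at h3
  obtain ⟨a, ha⟩ := IsPGroup.iff_card.1 hQp
  obtain ⟨b, hb⟩ := IsPGroup.iff_card.1 (hQp.to_subgroup (BenderMod.fix c))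
  have hb1 : 1 ≤ b := by
    rcases Nat.eq_zero_or_pos b with h0 | h0
    · exfalso
      rw [h0, pow_zero] at hb
      have h4 : BenderMod.fix c = ⊥ := Subgroup.eq_bot_of_card_eq _ hb
      have h5 : (⟨tC, htQ⟩ : Q) ∈ BenderMod.fix c := by
        rw [BenderMod.mem_fix]
        apply Subtype.ext
        change xC * tC * xC⁻¹ = tC
        rw [mul_inv_eq_iff_eq_mul]
        exact Subtype.ext hc.symm
      rw [h4, mem_bot] at h5
      have h6 : t = 1 := congrArg (fun z : Q => ((z : C) : G)) h5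
      rw [h6, orderOf_one] at ht
      omega
    · exact h0
  have hba : b < a := by
    have h4 : Nat.card (BenderMod.fix c) < Nat.card Q := by
      have h5 : Nat.card (BenderMod.fix c) ≤ Nat.card Q := Subgroup.card_le_card_group _
      refine lt_of_le_of_ne h5 fun h6 => hc1 ?_
      have h7 := Subgroup.eq_top_of_card_eq _ h6
      ext y
      have h8 : y ∈ BenderMod.fix c := by rw [h7]; trivial
      rw [BenderMod.mem_fix] at h8
      rw [h8]
      rfl
    rw [ha, hb] at h4
    exact (Nat.pow_lt_pow_iff_right (by norm_num)).1 h4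
  have han : a ≤ n := by
    refine le_trans ?_ hn
    rw [← Nat.prime_two.pow_dvd_iff_le_factorization Nat.card_pos.ne', ← ha]
    exact (Subgroup.card_subgroup_dvd_card Q).trans (Subgroup.card_subgroup_dvd_card C)
  rw [ha, hb] at h3
  have h4 : 2 ^ a - 2 ^ b = 2 ^ b * (2 ^ (a - b) - 1) := by
    rw [Nat.mul_sub, mul_one, ← pow_add, Nat.add_sub_cancel' hba.le]
  rw [h4] at h3
  rcases (Nat.Prime.dvd_mul hr).1 h3 with h5 | h5
  · exact hr2 ((Nat.prime_dvd_prime_iff_eq hr Nat.prime_two).1 (hr.dvd_of_dvd_pow h5))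
  · have h6 := Nat.le_of_dvd (by omega) (hprim _ h5)
    omega

end Cfsg.Agent.H368.SFacts
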