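import Cfsg.Agent.H368.SEnd
import Cfsg.Agent.H368.SFacts
import Cfsg.Agent.Lib.Zsigmondy
import Cfsg.Agent.Lib.PSL2Mult
import Cfsg.Agent.H478.WalterAll
import Cfsg.Agent.ClassicalGeometry.PSL2Basic
import Cfsg.Agent.NotCT.Orders
import Cfsg.Agent.S0205
import Cfsg.Agent.S1159

/-!
# Small Ree groups: recognition by order and spectrum
-/

set_option autoImplicit false

open Subgroup Cfsg Cfsg.Agent

namespace Cfsg.Agent.H368.SRee

open Cfsg.Agent.H368.SNum Cfsg.Agent.H368.SEnd Cfsg.Agent.H368.SRed Cfsg.Agent.H366.Coclique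

theorem even_card {L : Type*} [Group L] [Finite L] (hL : IsSimpleGroup L)
    (hna : ¬ IsMulCommutative L) : 2 ∣ Nat.card L := by
  rw [← even_iff_two_dvd]
  by_contra h
  have hsol : Group.IsSolvable L := S0205.result (Nat.not_even_iff_odd.1 h)
  exact hna ⟨⟨IsSimpleGroup.comm_iff_isSolvable.mpr hsol⟩⟩

/-- the spectrum, as restrictions -/
theorem spec {M : Type*} [Group M] {m : ℕ} (hm : 1 ≤ m) {F : Type} [Field F] [Fintype F]
    (hF : Fintype.card F = 3 ^ (2 * m + 1)) (e : M ≃* Lie.twistedG2 F (3 ^ m)) (x : M) :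
    orderOf x ∣ 6 ∨ orderOf x ∣ 9 ∨ orderOf x ∣ 3 ^ (2 * m + 1) - 1 ∨
      orderOf x ∣ (3 ^ (2 * m + 1) + 1) / 2 ∨
      (orderOf x % 3 ≠ 0 ∧ orderOf x % 2 = 1) := by
  have h1 := (S1159.result hm hF (orderOf x)).1 ⟨e x, MulEquiv.orderOf_eq e x⟩
  have h2 : 3 ^ (2 * m + 1) = 3 * 3 ^ (2 * m) := by ring
  have h3 : 3 ^ (m + 1) = 3 * 3 ^ m := by ring
  have h4 : 3 ^ m ≤ 3 ^ (2 * m) := Nat.pow_le_pow_right (by norm_num) (by omega)
  have h5 : 3 ^ m % 2 = 1 := by
    rw [Nat.pow_mod]; simp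
  have h6 : 3 ^ (2 * m) % 2 = 1 := by
    rw [Nat.pow_mod]; simp
  rcases h1 with h | h | h | h | h | h
  · exact Or.inl h
  · exact Or.inr (Or.inl h)
  · exact Or.inr (Or.inr (Or.inl h))
  · exact Or.inr (Or.inr (Or.inr (Or.inl h)))
  · refine Or.inr (Or.inr (Or.inr (Or.inr ⟨?_, ?_⟩)))
    · intro h0
      have h7 := (Nat.dvd_of_mod_eq_zero h0).trans h
      omega
    · by_contra h0
      have h7 : 2 ∣ orderOf x := by omega
      have h8 := h7.trans h
      omega
  · refine Or.inr (Or.inr (Or.inr (Or.inr ⟨?_, ?_⟩)))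
    · intro h0
      have h7 := (Nat.dvd_of_mod_eq_zero h0).trans h
      omega
    · by_contra h0
      have h7 : 2 ∣ orderOf x := by omega
      have h8 := h7.trans h
      omega

/-- the order of `PSL(2, F)`, `|F|` odd -/
theorem card_psl {F : Type} [Field F] [Fintype F] (h : Odd (Fintype.card F)) :
    Nat.card (Matrix.ProjectiveSpecialLinearGroup (Fin 2) F) * 2 =
      Fintype.card F * (Fintype.card F ^ 2 - 1) :=
  ClassicalGeometry.PSL2Basic.card_PSL2_odd (F := F) h

theorem ree {G M : Type*} [Group G] [Finite G] [Group M] [Finite M] (hM : Lie.IsoRee M)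
    (hs : ∀ g : G, ∃ x : M, orderOf x = orderOf g) (hc : Nat.card G = Nat.card M) :
    Nonempty (G ≃* M) := by
  obtain ⟨m, hm, ⟨F, iF, iF', hF, ⟨e⟩⟩, hcM, h3M, h2M⟩ := card_ree hM
  have hspec := spec hm hF e
  set q := 3 ^ (2 * m + 1) with hq
  have hq27 : 27 ≤ q := by
    calc 27 = 3 ^ 3 := rfl
      _ ≤ 3 ^ (2 * m + 1) := Nat.pow_le_pow_right (by norm_num) (by omega)
  have hq8 : q % 8 = 3 := three_pow_mod m
  have hq3 : q % 3 = 0 := by rw [hq, pow_succ]; omega
  obtain ⟨r, hr, hprim, hr1, hr2⟩ := Lib.Zsigmondy.exists_primitive (a := 3) (n := 6 * (2 * m + 1))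
    (by norm_num) (by omega) (by omega) (by omega)
  have hprim' : ∀ k, r ∣ 3 ^ k - 1 → 6 * (2 * m + 1) ∣ k := fun k => (hprim k).1
  have hr19 : 19 ≤ r := by
    have h1 := Nat.le_of_dvd (by have := hr.two_le; omega) hr1
    omega
  have hrne2 : r ≠ 2 := by omega
  have hrne3 : r ≠ 3 := by omega
  have hrq1 : ¬ r ∣ q - 1 := not_dvd_sub hprim' (by omega) (by omega)
  have hrq2 : ¬ r ∣ q + 1 := not_dvd_add hprim' (by omega) (by omega)
  -- `r` divides `q ^ 2 - q + 1`
  have hfact : q ^ 3 + 1 = (q + 1) * (q ^ 2 - q + 1) := by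
    obtain ⟨c, hc⟩ : ∃ c, q = c + 1 := ⟨q - 1, by omega⟩
    rw [hc, show (c + 1) ^ 2 - (c + 1) + 1 = c ^ 2 + c + 1 by
      have : (c + 1) ^ 2 = c ^ 2 + c + (c + 1) := by ring
      omega]
    ring
  have hrq : ¬ r ∣ 3 ^ (3 * (2 * m + 1)) * (q - 1) * (q + 1) := by
    rw [Nat.Prime.dvd_mul hr, Nat.Prime.dvd_mul hr]
    rintro ((h | h) | h)
    · exact hr2 (hr.dvd_of_dvd_pow h)
    · exact hrq1 h
    · exact hrq2 h
  have hcM' : Nat.card M = 3 ^ (3 * (2 * m + 1)) * (q - 1) * (q + 1) * (q ^ 2 - q + 1) := by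
    rw [hcM, hfact]; ring
  have hrdvd3 : r ∣ q ^ 3 + 1 := by
    have h1 : r ∣ 3 ^ (6 * (2 * m + 1)) - 1 := (hprim _).2 dvd_rfl
    have h2 : 3 ^ (6 * (2 * m + 1)) - 1 = (3 ^ (3 * (2 * m + 1)) - 1) * (q ^ 3 + 1) := by
      rw [show 6 * (2 * m + 1) = (3 * (2 * m + 1)) * 2 by ring, pow_mul, SNum.sub_mul, hq, ← pow_mul,
        mul_comm (2 * m + 1) 3]
    rw [h2] at h1
    exact ((Nat.Prime.dvd_mul hr).1 h1).resolve_left (not_dvd_sub hprim' (by omega) (by omega))
  have hrdvd : r ∣ Nat.card M := by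
    rw [hcM]
    exact dvd_mul_of_dvd_right (dvd_mul_of_dvd_right hrdvd3 _) _
  have hfac : r ^ (Nat.card M).factorization r ∣ q ^ 2 - q + 1 := part_dvd hr hcM' hrq
  have hfac' : r ^ (Nat.card M).factorization r ≤ q ^ 2 := by
    have h1 := Nat.le_of_dvd (by omega) hfac
    have h2 : q ≤ q ^ 2 := Nat.le_self_pow (by norm_num) q
    omega
  have hN : Num {2, 3} r (Nat.card M).factorization :=
    { prime := by
        rintro p (rfl | rfl)
        · exact Nat.prime_two
        · exact Nat.prime_three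
      rprime := hr
      notMem := by
        rintro (h | h)
        · exact hrne2 h
        · exact hrne3 h
      pos := (hr.dvd_iff_one_le_factorization Nat.card_pos.ne').1 hrdvd
      big := by
        refine ⟨3, Or.inr rfl, ?_⟩
        rw [h3M, mul_comm 3, pow_mul, ← hq]
        exact hfac'.trans (Nat.pow_le_pow_right (by omega) (by norm_num)) }
  have h6 : ∀ d : ℕ, r ∣ d → 0 < d → 19 ≤ d := fun d h1 h2 => hr19.trans (Nat.le_of_dvd h2 h1)
  have hnaM : ∀ p, p = 2 ∨ p = 3 → NA M p r := by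
    intro p hp x hx
    have hrx : r ∣ orderOf x := by rw [hx]; exact Dvd.intro_left _ rfl
    have hpx : p ∣ orderOf x := by rw [hx]; exact Dvd.intro _ rfl
    rcases hspec x with h | h | h | h | ⟨h, h'⟩
    · have := h6 6 (hrx.trans h) (by norm_num)
      omega
    · have := h6 9 (hrx.trans h) (by norm_num)
      omega
    · exact hrq1 (hrx.trans h)
    · apply hrq2
      refine (hrx.trans h).trans ⟨2, ?_⟩
      omega
    · rcases hp with rfl | rfl
      · omega
      · omega
  -- no element of order `4` or `27`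
  have h4M : ∀ x : M, ¬ 4 ∣ orderOf x := by
    intro x h4
    rcases hspec x with h | h | h | h | ⟨h, h'⟩
    · have := h4.trans h
      omega
    · have := h4.trans h
      omega
    · have := h4.trans h
      omega
    · have := h4.trans h
      omega
    · omega
  have h27M : ∀ x : M, ¬ 27 ∣ orderOf x := by
    intro x h4
    rcases hspec x with h | h | h | h | ⟨h, h'⟩
    · have := h4.trans h
      omega
    · have := h4.trans h
      omega
    · have := h4.trans h
      omega
    · have := h4.trans h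
      omega
    · omega
  have hH : Hyp {2, 3} r (Nat.card M).factorization G :=
    { pow := fun l _ => by rw [hc]
      na := by
        intro p hp g hg
        obtain ⟨x, hx⟩ := hs g
        exact hnaM p hp x (hx.trans hg)
      sq := by
        intro p hp k hk1 hk2 hk3
        exfalso
        rcases hp with rfl | rfl
        · rw [h2M] at hk2
          interval_cases k
          · have := h6 (2 ^ 1 - 1) hk3 (by norm_num)
            omega
          · have := h6 (2 ^ 2 - 1) hk3 (by norm_num)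
            omega
          · have := h6 (2 ^ 3 - 1) hk3 (by norm_num)
            omega
        · have h1 := Nat.le_of_dvd (by omega) (hprim' k hk3)
          omega }
  obtain ⟨R, hRn, hRd, hHR, S, hSn, hSs, hSna, hSc⟩ := hH.exists_simple hN (Or.inl rfl) (by omega)
  have hSdvd : Nat.card S ∣ Nat.card M := by
    rw [← hc]
    exact (Subgroup.card_subgroup_dvd_card S).trans (Subgroup.card_quotient_dvd_card R)
  have hSord : ∀ s : S, ∃ x : M, orderOf x = orderOf s := by
    intro s
    obtain ⟨g, hg⟩ := exists_orderOf_quotient R (x := (s : G ⧸ R)) rfl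
    obtain ⟨x, hx⟩ := hs g
    exact ⟨x, by rw [hx, hg, Subgroup.orderOf_coe]⟩
  have hrS : r ∣ Nat.card S := hHR.dvd_normal hN S (Or.inl rfl) (even_card hSs hSna)
  -- the 3-part of the order of `S`
  have hidx := hHR.pow_index hN S hrS (p := 3) (Or.inr rfl)
  have h3S : (Nat.card S).factorization 3 + S.index.factorization 3 = 3 * (2 * m + 1) := by
    rw [← h3M, ← hHR.pow 3 (Or.inl (Or.inr rfl)), ← Subgroup.card_mul_index S,
      Nat.factorization_mul Nat.card_pos.ne' S.index_ne_zero_of_finite, Finsupp.add_apply]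
  have h3i : S.index.factorization 3 < 2 * (2 * m + 1) := by
    have h1 : 3 ^ S.index.factorization 3 < 3 ^ (2 * (2 * m + 1)) := by
      rw [mul_comm 2, pow_mul, ← hq]
      exact hidx.trans_le hfac'
    exact (Nat.pow_lt_pow_iff_right (by norm_num)).1 h1
  have h3S' : 4 ≤ (Nat.card S).factorization 3 := by omega
  have h4 : ∀ x : S, orderOf x ≠ 4 := by
    intro x hx
    obtain ⟨y, hy⟩ := hSord x
    exact h4M y (by rw [hy, hx])
  rcases H478.WalterAll.iso_of_exponent hSna h4 with ⟨K, iK, iK', n, hn, hK, ⟨f⟩⟩ |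
      ⟨K, iK, iK', hK, hK5, ⟨f⟩⟩ | hR' | hJ
  · -- `PSL(2, 2^n)`
    exfalso
    have hcS : Nat.card S = 2 ^ n * ((2 ^ n) ^ 2 - 1) := by
      rw [Nat.card_congr f.toEquiv, ClassicalGeometry.PSL2Basic.card_PSL2_even (F := K) (by
        rw [hK]; exact (Nat.even_pow.2 ⟨even_two, by omega⟩)), hK]
    have hn3 : n ≤ 3 := by
      rw [← h2M, ← Nat.prime_two.pow_dvd_iff_le_factorization Nat.card_pos.ne']
      refine dvd_trans ?_ hSdvd
      rw [hcS]
      exact Dvd.intro _ rfl
    rw [hcS, Nat.Prime.dvd_mul hr] at hrS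
    rcases hrS with h | h
    · have := (Nat.prime_dvd_prime_iff_eq hr Nat.prime_two).1 (hr.dvd_of_dvd_pow h)
      omega
    · have h7 : n = 2 ∨ n = 3 := by omega
      rcases h7 with rfl | rfl
      · have := h6 _ h (by norm_num)
        omega
      · norm_num at h
        have h8 : r ∣ 7 * 9 := by norm_num; exact h
        rcases (Nat.Prime.dvd_mul hr).1 h8 with h9 | h9
        · have := h6 _ h9 (by norm_num)
          omega
        · have := h6 _ h9 (by norm_num)
          omega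
  · exfalso
    have hodd : Odd (Fintype.card K) := by rw [Nat.odd_iff]; omega
    have hcS : Nat.card S * 2 = Fintype.card K * (Fintype.card K ^ 2 - 1) := by
      rw [Nat.card_congr f.toEquiv, card_psl hodd]
    by_cases h3K : 3 ∣ Fintype.card K
    · -- `PSL(2, 3^k)`
      obtain ⟨k, hk⟩ : ∃ k, Fintype.card K = 3 ^ k := by
        obtain ⟨p, hp⟩ := CharP.exists K
        obtain ⟨n, hp1, hn⟩ := FiniteField.card K p
        have h7 : 3 = p := by
          rw [hn] at h3K
          exact (Nat.prime_dvd_prime_iff_eq Nat.prime_three hp1).1 (Nat.prime_three.dvd_of_dvd_pow h3K)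
        exact ⟨n, by rw [hn, h7]⟩
      have hk0 : 1 ≤ k := by
        rcases Nat.eq_zero_or_pos k with h0 | h0
        · rw [h0, pow_zero] at hk; omega
        · exact h0
      have h7 : 6 * (2 * m + 1) ∣ 2 * k := by
        apply hprim'
        have h8 : r ∣ 3 ^ k * ((3 ^ k) ^ 2 - 1) := by
          rw [← hk, ← hcS]
          exact Dvd.dvd.mul_right hrS 2
        rcases (Nat.Prime.dvd_mul hr).1 h8 with h9 | h9
        · exact absurd (hr.dvd_of_dvd_pow h9) hr2
        · rwa [mul_comm 2 k, pow_mul]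
      have h8 : 3 * (2 * m + 1) ≤ k := by
        have := Nat.le_of_dvd (by omega) h7
        omega
      have h9 : 3 ^ (3 * (2 * m + 1)) ≤ 3 ^ k := Nat.pow_le_pow_right (by norm_num) h8
      have h10 : Nat.card S ≤ Nat.card M := Nat.le_of_dvd Nat.card_pos hSdvd
      have h11 : 3 ^ (3 * (2 * m + 1)) = q ^ 3 := by rw [mul_comm, pow_mul]
      rw [h11] at h9
      rw [hcM, h11] at h10
      rw [hk] at hcS
      -- size
      have h12 : q ^ 3 * (q ^ 6 - 1) ≤ 2 * (q ^ 3 * ((q - 1) * (q ^ 3 + 1))) := by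
        calc q ^ 3 * (q ^ 6 - 1) = q ^ 3 * ((q ^ 3) ^ 2 - 1) := by
              rw [show q ^ 6 = (q ^ 3) ^ 2 by ring]
          _ ≤ 3 ^ k * ((3 ^ k) ^ 2 - 1) :=
            Nat.mul_le_mul h9 (Nat.sub_le_sub_right (Nat.pow_le_pow_left h9 2) 1)
          _ = Nat.card S * 2 := hcS.symm
          _ ≤ _ := by omega
      have h13 : q ^ 6 - 1 = (q ^ 3 - 1) * (q ^ 3 + 1) := by
        rw [show q ^ 6 = (q ^ 3) ^ 2 by ring, SNum.sub_mul]
      rw [h13] at h12
      have h14 : (q ^ 3 * (q ^ 3 + 1)) * (q ^ 3 - 1) ≤ (q ^ 3 * (q ^ 3 + 1)) * (2 * (q - 1)) := by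
        calc _ = q ^ 3 * ((q ^ 3 - 1) * (q ^ 3 + 1)) := by ring
          _ ≤ _ := h12
          _ = _ := by ring
      have h15 := Nat.le_of_mul_le_mul_left h14 (by positivity)
      have h16 : 27 * 27 * q ≤ q ^ 3 := by
        rw [pow_succ, pow_two]
        exact Nat.mul_le_mul_right _ (Nat.mul_le_mul hq27 hq27)
      omega
    · -- the Sylow 3-subgroups are cyclic
      have : Fact (Nat.Prime 3) := ⟨Nat.prime_three⟩
      obtain ⟨T⟩ : Nonempty (Sylow 3 (Matrix.ProjectiveSpecialLinearGroup (Fin 2) K)) := inferInstance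
      have hcyc := Lib.PSL2Mult.isCyclic_sylow_psl hodd (p := 3) (by norm_num) h3K T
      obtain ⟨g, hg⟩ := IsCyclic.exists_ofOrder_eq_natCard (α := T)
      have h7 : orderOf (f.symm (g : Matrix.ProjectiveSpecialLinearGroup (Fin 2) K)) =
          3 ^ (Nat.card S).factorization 3 := by
        rw [MulEquiv.orderOf_eq, Subgroup.orderOf_coe, hg]
        have h8 := T.card_eq_multiplicity
        rw [← Nat.card_congr f.toEquiv] at h8
        exact h8
      obtain ⟨y, hy⟩ := hSord (f.symm (g : Matrix.ProjectiveSpecialLinearGroup (Fin 2) K))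
      apply h27M y
      rw [hy, h7, show 27 = 3 ^ 3 by norm_num]
      exact pow_dvd_pow 3 (by omega)
  · -- Ree
    obtain ⟨m', hm', -, hcS, h3S2, -⟩ := card_ree hR'
    have h7 : 6 * (2 * m + 1) ∣ 6 * (2 * m' + 1) := by
      apply hprim'
      rw [hcS, Nat.Prime.dvd_mul hr, Nat.Prime.dvd_mul hr] at hrS
      rcases hrS with h | h | h
      · exact absurd (hr.dvd_of_dvd_pow h) hr2
      · exact h.trans (by
          rw [mul_comm 6, pow_mul]
          exact Nat.sub_one_dvd_pow_sub_one _ 6)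
      · have h8 : 3 ^ (6 * (2 * m' + 1)) - 1 = (3 ^ (3 * (2 * m' + 1)) - 1) * ((3 ^ (2 * m' + 1)) ^ 3 + 1) := by
          rw [show 6 * (2 * m' + 1) = (3 * (2 * m' + 1)) * 2 by ring, pow_mul, SNum.sub_mul, ← pow_mul,
            mul_comm (2 * m' + 1) 3]
        rw [h8]
        exact dvd_mul_of_dvd_right h _
    have h8 := Nat.le_of_dvd (by omega) h7
    obtain ⟨h9, ⟨f⟩⟩ := ree_iso hM hR' (by omega)
    obtain ⟨f'⟩ := equiv_of_card R S (h9.trans hc.symm)
    exact ⟨f'.trans f⟩
  · exfalso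
    have hcS : Nat.card S = 175560 := NotCT.Orders.j1 hJ
    have h7 : 3 ^ 4 ∣ 175560 := by
      rw [← hcS, Nat.prime_three.pow_dvd_iff_le_factorization Nat.card_pos.ne']
      exact h3S'
    omega

end Cfsg.Agent.H368.SRee
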