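import Cfsg.Agent.H368.SEnd
import Cfsg.Agent.H368.SFacts
import Cfsg.Agent.Lib.Zsigmondy
import Cfsg.Agent.ThreePrime.Main
import Cfsg.Agent.OddCyclic.CaseESz

/-!
# Suzuki groups: recognition by order and spectrum
-/

set_option autoImplicit false

open Subgroup Cfsg Cfsg.Agent

namespace Cfsg.Agent.H368.SSz

open Cfsg.Agent.H368.SNum Cfsg.Agent.H368.SEnd Cfsg.Agent.H368.SRed Cfsg.Agent.H366.Coclique

theorem two_pow_mod (m : ℕ) : 2 ^ (2 * m + 1) % 3 = 2 := by
  induction m with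
  | zero => rfl
  | succ m ih =>
    have : 2 ^ (2 * (m + 1) + 1) = 4 * 2 ^ (2 * m + 1) := by ring
    omega

theorem five_dvd (m : ℕ) : 5 ∣ (2 ^ (2 * m + 1)) ^ 2 + 1 := by
  induction m with
  | zero => norm_num
  | succ m ih =>
    have : (2 ^ (2 * (m + 1) + 1)) ^ 2 = 16 * (2 ^ (2 * m + 1)) ^ 2 := by ring
    omega

theorem suzuki {G M : Type*} [Group G] [Finite G] [Group M] [Finite M] (hM : Lie.IsoSuzuki M)
    (hs : ∀ g : G, ∃ x : M, orderOf x = orderOf g) (hc : Nat.card G = Nat.card M) :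
    Nonempty (G ≃* M) := by
  obtain ⟨m, hm, -, hcM, h2M⟩ := card_sz hM
  set q := 2 ^ (2 * m + 1) with hq
  have hq8 : 8 ≤ q := by
    calc 8 = 2 ^ 3 := rfl
      _ ≤ 2 ^ (2 * m + 1) := Nat.pow_le_pow_right (by norm_num) (by omega)
  obtain ⟨r, hr, hprim, hr1, hr2⟩ := Lib.Zsigmondy.exists_primitive (a := 2) (n := 4 * (2 * m + 1))
    le_rfl (by omega) (by omega) (by omega)
  have hprim' : ∀ k, r ∣ 2 ^ k - 1 → 4 * (2 * m + 1) ∣ k := fun k => (hprim k).1
  have hrne2 : r ≠ 2 := by rintro rfl; exact hr2 dvd_rfl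
  -- `r` divides `q ^ 2 + 1`
  have hrq : ¬ r ∣ 2 ^ (2 * (2 * m + 1)) * (2 ^ (2 * m + 1) - 1) := by
    rw [Nat.Prime.dvd_mul hr]
    rintro (h | h)
    · exact hr2 (hr.dvd_of_dvd_pow h)
    · exact not_dvd_sub hprim' (by omega) (by omega) h
  have hrdvd : r ∣ q ^ 2 + 1 := by
    have h1 : r ∣ 2 ^ (4 * (2 * m + 1)) - 1 := (hprim _).2 dvd_rfl
    have h2 : 2 ^ (4 * (2 * m + 1)) - 1 = (2 ^ (2 * (2 * m + 1)) - 1) * (q ^ 2 + 1) := by
      rw [show 4 * (2 * m + 1) = (2 * (2 * m + 1)) * 2 by ring, pow_mul, sub_mul, hq, ← pow_mul,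
        mul_comm (2 * m + 1) 2]
    rw [h2] at h1
    exact ((Nat.Prime.dvd_mul hr).1 h1).resolve_left (not_dvd_sub hprim' (by omega) (by omega))
  have hfac : r ^ (Nat.card M).factorization r ∣ q ^ 2 + 1 :=
    part_dvd hr (by rw [hcM]; ring) hrq
  have hN : Num {2} r (Nat.card M).factorization :=
    { prime := by rintro p rfl; exact Nat.prime_two
      rprime := hr
      notMem := by simpa using hrne2
      pos := by
        rw [← hr.dvd_iff_one_le_factorization Nat.card_pos.ne', hcM]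
        exact dvd_mul_of_dvd_right (dvd_mul_of_dvd_right hrdvd _) _
      big := by
        refine ⟨2, rfl, ?_⟩
        rw [h2M, mul_comm 2, pow_mul, ← hq]
        have h1 := Nat.le_of_dvd (by positivity) hfac
        rcases Nat.lt_or_ge (r ^ (Nat.card M).factorization r) (q ^ 2 + 1) with h | h
        · omega
        · exfalso
          have h3 : 5 ∣ r ^ (Nat.card M).factorization r := by
            rw [le_antisymm h1 h]
            exact five_dvd m
          have h5 := (Nat.prime_dvd_prime_iff_eq Nat.prime_five hr).1 (Nat.prime_five.dvd_of_dvd_pow h3)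
          rw [← h5] at hr1
          have := Nat.le_of_dvd (by norm_num) hr1
          omega }
  have hH : Hyp {2} r (Nat.card M).factorization G :=
    { pow := fun l _ => by rw [hc]
      na := by
        rintro p rfl g hg
        obtain ⟨x, hx⟩ := hs g
        exact SFacts.na_suzuki hM hr hrne2 x (hx.trans hg)
      sq := by
        rintro p rfl k hk1 hk2 hk3
        exfalso
        have h1 := Nat.le_of_dvd (by omega) (hprim' k hk3)
        omega }
  obtain ⟨R, hRn, hRd, hHR, S, hSn, hSs, hSna, hSc⟩ := hH.exists_simple hN rfl (by omega)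
  have hSdvd : Nat.card S ∣ Nat.card M := by
    rw [← hc]
    exact (Subgroup.card_subgroup_dvd_card S).trans (Subgroup.card_quotient_dvd_card R)
  have h3 : ¬ 3 ∣ Nat.card S := by
    intro h
    have h1 := h.trans hSdvd
    rw [hcM, Nat.Prime.dvd_mul Nat.prime_three, Nat.Prime.dvd_mul Nat.prime_three] at h1
    have h2 := two_pow_mod m
    rw [← hq] at h2
    rcases h1 with h1 | h1 | h1
    · have := Nat.prime_three.dvd_of_dvd_pow h1
      omega
    · omega
    · have h4 : q ^ 2 % 3 = 1 := by rw [Nat.pow_mod, h2]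
      omega
  have hSz : Lie.IsoSuzuki S := by
    refine ThreePrime.Main.isoSuzuki_aux _ S rfl ?_ h3
    by_contra hcon
    push Not at hcon
    exact hSna ⟨⟨hcon⟩⟩
  obtain ⟨Q, hQ⟩ := OddCyclic.CaseESz.szK (K := S) hSz
  have hidx : ¬ 2 ∣ S.index := by
    intro h2
    have : Fact (Nat.Prime 2) := ⟨Nat.prime_two⟩
    obtain ⟨x, hx⟩ := exists_prime_orderOf_dvd_card' (G := (G ⧸ R) ⧸ S) 2 (by
      rwa [← Subgroup.index_eq_card])
    obtain ⟨g, rfl⟩ := QuotientGroup.mk_surjective x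
    -- the 2-part of `g`
    obtain ⟨k, l, hl, hkl⟩ := Nat.exists_eq_two_pow_mul_odd (n := orderOf g) (orderOf_pos g).ne'
    have h4 : (g ^ l) ^ 2 ^ k = 1 := by
      rw [← pow_mul, mul_comm, ← hkl, pow_orderOf_eq_one]
    have h5 := hQ.inner (g ^ l) (by rw [normalizer_eq_top]; trivial) ⟨k, h4⟩
    rw [hSc, sup_bot_eq] at h5
    have h6 : ((g : (G ⧸ R) ⧸ S)) ^ l = 1 := by
      rw [← QuotientGroup.mk_pow, QuotientGroup.eq_one_iff]
      exact h5
    have h7 := orderOf_dvd_of_pow_eq_one h6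
    rw [hx] at h7
    exact (Nat.not_even_iff_odd.2 hl) (even_iff_two_dvd.2 h7)
  have h2S : (Nat.card S).factorization 2 = (Nat.card M).factorization 2 := by
    rw [← hHR.pow 2 (Or.inl rfl), ← Subgroup.card_mul_index S,
      Nat.factorization_mul Nat.card_pos.ne' S.index_ne_zero_of_finite]
    simp [Nat.factorization_eq_zero_of_not_dvd hidx]
  obtain ⟨h7, ⟨e⟩⟩ := sz_iso hM hSz h2S
  obtain ⟨f⟩ := equiv_of_card R S (h7.trans hc.symm)
  exact ⟨f.trans e⟩

end Cfsg.Agent.H368.SSz
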