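import Mathlib.GroupTheory.OrderOfElement
import Mathlib.LinearAlgebra.Matrix.GeneralLinearGroup.Basic
import Mathlib.LinearAlgebra.Matrix.GeneralLinearGroup.Defs
import Mathlib.FieldTheory.Finite.Basic
import Mathlib.FieldTheory.IsAlgClosed.AlgebraicClosure
import Mathlib.RingTheory.RootsOfUnity.AlgebraicallyClosed
import Mathlib.LinearAlgebra.Matrix.CharP
import Mathlib.FieldTheory.Finite.GaloisField
import Mathlib.Tactic
import Cfsg.Agent.H390.PslSpec

/-!
# The spectrum of `PGL(2,q)`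

`range_orderOf` : the set of element orders of `PGL(2,q)`, `q` a power of the prime `p`, is the set of
divisors of `p`, `q - 1` and `q + 1`.
-/

set_option autoImplicit false

namespace Cfsg.Agent.H368.PGLSpec

open Matrix Polynomial

section Generic

variable {K : Type*} [Field K]

/-- Cayley-Hamilton for `2 × 2` matrices whose trace and determinant are `u + v` and `u v`. -/
theorem cayley (M : Matrix (Fin 2) (Fin 2) K) (u v : K) (ht : M 0 0 + M 1 1 = u + v) (hd : M.det = u * v) :
    M * M = (u + v) • M - (u * v) • 1 := by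
  rw [Matrix.det_fin_two] at hd
  ext i j
  fin_cases i <;> fin_cases j <;> simp [Matrix.mul_apply, Fin.sum_univ_two]
  · linear_combination (M 0 0) * ht - hd
  · linear_combination (M 0 1) * ht
  · linear_combination (M 1 0) * ht
  · linear_combination (M 1 1) * ht - hd

/-- Powers in terms of the eigenvalues. -/
theorem pow_formula (M : Matrix (Fin 2) (Fin 2) K) (u v : K) (ht : M 0 0 + M 1 1 = u + v) (hd : M.det = u * v)
    (n : ℕ) : (u - v) • M ^ n = (u ^ n - v ^ n) • M - (u ^ n * v - v ^ n * u) • (1 : Matrix (Fin 2) (Fin 2) K) := by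
  induction n with
  | zero =>
    simp only [pow_zero, sub_self, zero_smul, zero_sub, one_mul, ← neg_smul]
    congr 1
    ring
  | succ n ih =>
    have h1 : (u - v) • M ^ (n + 1) = ((u - v) • M ^ n) * M := by rw [pow_succ, smul_mul_assoc]
    rw [h1, ih, sub_mul, smul_mul_assoc, smul_mul_assoc, one_mul, cayley M u v ht hd, smul_sub, smul_smul, smul_smul]
    ext i j
    simp only [Matrix.sub_apply, Matrix.smul_apply, smul_eq_mul]
    ring

/-- being a scalar matrix -/
def IsScal (M : Matrix (Fin 2) (Fin 2) K) : Prop := ∃ a : K, M = a • (1 : Matrix (Fin 2) (Fin 2) K)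

theorem isScal_iff (M : Matrix (Fin 2) (Fin 2) K) : IsScal M ↔ M 0 1 = 0 ∧ M 1 0 = 0 ∧ M 0 0 = M 1 1 := by
  constructor
  · rintro ⟨a, rfl⟩
    simp
  · rintro ⟨h1, h2, h3⟩
    refine ⟨M 0 0, ?_⟩
    ext i j
    fin_cases i <;> fin_cases j <;> simp [h1, h2, h3]

theorem isScal_pow_of_eq (M : Matrix (Fin 2) (Fin 2) K) (u v : K) (ht : M 0 0 + M 1 1 = u + v) (hd : M.det = u * v)
    (huv : u ≠ v) (n : ℕ) (h : u ^ n = v ^ n) : IsScal (M ^ n) := by
  have h1 := pow_formula M u v ht hd n
  rw [h, sub_self, zero_smul, zero_sub, ← neg_smul] at h1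
  have h2 : u - v ≠ 0 := sub_ne_zero.2 huv
  refine ⟨(u - v)⁻¹ * (-(v ^ n * v - v ^ n * u)), ?_⟩
  rw [← smul_smul, ← h1, smul_smul, inv_mul_cancel₀ h2, one_smul]

theorem eq_of_isScal_pow (M : Matrix (Fin 2) (Fin 2) K) (u v : K) (ht : M 0 0 + M 1 1 = u + v) (hd : M.det = u * v)
    (hM : ¬ IsScal M) (n : ℕ) (h : IsScal (M ^ n)) : u ^ n = v ^ n := by
  by_contra hne
  apply hM
  obtain ⟨a, ha⟩ := h
  have h1 := pow_formula M u v ht hd n
  rw [ha] at h1
  have h2 : u ^ n - v ^ n ≠ 0 := sub_ne_zero.2 hne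
  refine ⟨(u ^ n - v ^ n)⁻¹ * ((u - v) * a + (u ^ n * v - v ^ n * u)), ?_⟩
  have h3 : (u ^ n - v ^ n) • M = ((u - v) * a + (u ^ n * v - v ^ n * u)) • (1 : Matrix (Fin 2) (Fin 2) K) := by
    rw [add_smul, ← smul_smul, h1, sub_add_cancel]
  rw [← smul_smul, ← h3, smul_smul, inv_mul_cancel₀ h2, one_smul]

theorem isScal_pow_of_double (p : ℕ) [hp : Fact p.Prime] [CharP K p] (M : Matrix (Fin 2) (Fin 2) K) (u : K)
    (ht : M 0 0 + M 1 1 = u + u) (hd : M.det = u * u) : IsScal (M ^ p) := by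
  have hc := cayley M u u ht hd
  have hsq : (M - Matrix.scalar (Fin 2) u) ^ 2 = 0 := by
    rw [pow_two, sub_mul, mul_sub, mul_sub, hc]
    ext i j
    fin_cases i <;> fin_cases j <;> simp [Matrix.mul_apply, Fin.sum_univ_two] <;> ring1
  have hcomm : Commute M (Matrix.scalar (Fin 2) u) := (Matrix.scalar_commute u (fun r => mul_comm _ _) _).symm
  have : CharP (Matrix (Fin 2) (Fin 2) K) p := Matrix.charP (n := Fin 2) (R := K) p
  have hp0 : (M - Matrix.scalar (Fin 2) u) ^ p = 0 := by
    obtain ⟨k, hk⟩ := Nat.exists_eq_add_of_le hp.out.two_le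
    rw [hk, pow_add, hsq, zero_mul]
  rw [sub_pow_char_of_commute (R := Matrix (Fin 2) (Fin 2) K) (p := p) hcomm] at hp0
  rw [sub_eq_zero, ← map_pow] at hp0
  refine ⟨u ^ p, ?_⟩
  rw [hp0]
  ext i j
  fin_cases i <;> fin_cases j <;> simp

theorem isScal_map {F : Type*} [Field F] (f : F →+* K) (M : Matrix (Fin 2) (Fin 2) F) :
    IsScal (f.mapMatrix M) ↔ IsScal M := by
  rw [isScal_iff, isScal_iff]
  simp only [RingHom.mapMatrix_apply, Matrix.map_apply]
  rw [map_eq_zero_iff f f.injective, map_eq_zero_iff f f.injective, f.injective.eq_iff]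

end Generic

section Fin

variable {F : Type*} [Field F]

/-- the projection to `PGL(2,F)` -/
def pr (F : Type*) [Field F] :
    Matrix.GeneralLinearGroup (Fin 2) F →* Matrix.GeneralLinearGroup (Fin 2) F ⧸ Subgroup.center (Matrix.GeneralLinearGroup (Fin 2) F) :=
  QuotientGroup.mk' _

theorem pr_surjective : Function.Surjective (pr F) := QuotientGroup.mk'_surjective _

theorem pr_eq_one_iff (g : Matrix.GeneralLinearGroup (Fin 2) F) :
    pr F g = 1 ↔ IsScal (g : Matrix (Fin 2) (Fin 2) F) := by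
  have h : pr F g = 1 ↔ g ∈ Subgroup.center (Matrix.GeneralLinearGroup (Fin 2) F) := QuotientGroup.eq_one_iff g
  rw [h, Matrix.GeneralLinearGroup.mem_center_iff_val_mem_range_scalar]
  constructor
  · rintro ⟨a, ha⟩
    refine ⟨a, ?_⟩
    rw [← ha]
    ext i j
    fin_cases i <;> fin_cases j <;> simp
  · rintro ⟨a, ha⟩
    refine ⟨a, ?_⟩
    change _ = (g : Matrix (Fin 2) (Fin 2) F)
    rw [ha]
    ext i j
    fin_cases i <;> fin_cases j <;> simp

theorem pr_pow_eq_one_iff (g : Matrix.GeneralLinearGroup (Fin 2) F) (n : ℕ) :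
    (pr F g) ^ n = 1 ↔ IsScal ((g : Matrix (Fin 2) (Fin 2) F) ^ n) := by
  rw [← map_pow, pr_eq_one_iff]
  simp

/-- eigenvalues in the algebraic closure -/
theorem exists_eigen (M : Matrix (Fin 2) (Fin 2) F) : ∃ u v : AlgebraicClosure F,
    (algebraMap F (AlgebraicClosure F)).mapMatrix M 0 0 + (algebraMap F (AlgebraicClosure F)).mapMatrix M 1 1 = u + v ∧
    ((algebraMap F (AlgebraicClosure F)).mapMatrix M).det = u * v := by
  set K := AlgebraicClosure F
  set f := algebraMap F K
  set t := f.mapMatrix M 0 0 + f.mapMatrix M 1 1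
  set d := (f.mapMatrix M).det
  obtain ⟨u, hu⟩ := IsAlgClosed.exists_root (X ^ 2 - C t * X + C d : K[X]) (by
    have : (X ^ 2 - C t * X + C d : K[X]).degree = 2 := by compute_degree!
    rw [this]; decide)
  simp [IsRoot] at hu
  refine ⟨u, t - u, by ring, by linear_combination hu⟩

variable [Fintype F] (p : ℕ) [hp : Fact p.Prime] [hcp : CharP F p]

include hp hcp in
/-- Element orders of `PGL(2,q)` divide `p`, `q - 1` or `q + 1`; matrix form. -/
theorem isScal_cases (M : Matrix (Fin 2) (Fin 2) F) (hM : M.det ≠ 0) :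
    IsScal (M ^ p) ∨ IsScal (M ^ (Fintype.card F - 1)) ∨ IsScal (M ^ (Fintype.card F + 1)) := by
  set q := Fintype.card F with hq
  have hq1 : 1 ≤ q := Fintype.card_pos
  set f := algebraMap F (AlgebraicClosure F)
  obtain ⟨u, v, ht, hd⟩ := exists_eigen M
  have : CharP (AlgebraicClosure F) p := charP_of_injective_algebraMap (algebraMap F (AlgebraicClosure F)).injective p
  have hkey : ∀ n, IsScal ((f.mapMatrix M) ^ n) ↔ IsScal (M ^ n) := by
    intro n
    rw [← map_pow, isScal_map]
  have huv0 : u * v ≠ 0 := by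
    rw [← hd, ← RingHom.map_det, Ne, map_eq_zero_iff _ f.injective]
    exact hM
  have hu0 : u ≠ 0 := left_ne_zero_of_mul huv0
  have hv0 : v ≠ 0 := right_ne_zero_of_mul huv0
  by_cases huv : u = v
  · left
    rw [← hkey]
    subst huv
    exact isScal_pow_of_double p _ u ht hd
  · right
    have hs : ∃ s : F, f s = u + v := ⟨M 0 0 + M 1 1, by rw [← ht]; simp [f]⟩
    have hdd : ∃ s : F, f s = u * v := ⟨M.det, by rw [← hd, RingHom.map_det]⟩
    obtain ⟨s, hs⟩ := hs
    obtain ⟨d, hdd⟩ := hdd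
    have h1 : (u + v) ^ q = u ^ q + v ^ q := by
      obtain ⟨n, -, hn⟩ := FiniteField.card F p
      rw [hq, hn]
      exact add_pow_char_pow (R := AlgebraicClosure F) u v p n
    have h2 : (u + v) ^ q = u + v := by rw [← hs, ← map_pow, hq, FiniteField.pow_card]
    have h3 : (u * v) ^ q = u * v := by rw [← hdd, ← map_pow, hq, FiniteField.pow_card]
    rw [h2] at h1
    rw [mul_pow] at h3
    have hfr : (u ^ q - u) * (u ^ q - v) = 0 := by
      linear_combination (-u ^ q) * h1 - h3
    rcases mul_eq_zero.1 hfr with h | h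
    · left
      rw [← hkey]
      apply isScal_pow_of_eq _ u v ht hd huv
      have hu : u ^ q = u := by linear_combination h
      have hv : v ^ q = v := by rw [hu] at h1; linear_combination -h1
      have e1 : u ^ (q - 1) = 1 := by
        apply mul_right_cancel₀ hu0
        rw [← pow_succ, Nat.sub_add_cancel hq1, hu, one_mul]
      have e2 : v ^ (q - 1) = 1 := by
        apply mul_right_cancel₀ hv0
        rw [← pow_succ, Nat.sub_add_cancel hq1, hv, one_mul]
      rw [e1, e2]
    · right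
      rw [← hkey]
      apply isScal_pow_of_eq _ u v ht hd huv
      have hu : u ^ q = v := by linear_combination h
      have hv : v ^ q = u := by rw [hu] at h1; linear_combination -h1
      rw [pow_succ, pow_succ, hu, hv, mul_comm]

include hp hcp in
theorem order_dvd (g : Matrix.GeneralLinearGroup (Fin 2) F) :
    orderOf (pr F g) ∣ p ∨ orderOf (pr F g) ∣ Fintype.card F - 1 ∨ orderOf (pr F g) ∣ Fintype.card F + 1 := by
  have hdet : (g : Matrix (Fin 2) (Fin 2) F).det ≠ 0 := by
    have := (Matrix.isUnit_iff_isUnit_det (g : Matrix (Fin 2) (Fin 2) F)).1 g.isUnit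
    exact this.ne_zero
  rcases isScal_cases p (g : Matrix (Fin 2) (Fin 2) F) hdet with h | h | h
  · exact Or.inl (orderOf_dvd_of_pow_eq_one ((pr_pow_eq_one_iff g _).2 h))
  · exact Or.inr (Or.inl (orderOf_dvd_of_pow_eq_one ((pr_pow_eq_one_iff g _).2 h)))
  · exact Or.inr (Or.inr (orderOf_dvd_of_pow_eq_one ((pr_pow_eq_one_iff g _).2 h)))

theorem orderOf_eq_of_pow_iff {G : Type*} [Group G] {g : G} {m : ℕ} (h : ∀ n, g ^ n = 1 ↔ m ∣ n) :
    orderOf g = m := by
  apply Nat.dvd_antisymm
  · exact orderOf_dvd_of_pow_eq_one ((h m).2 dvd_rfl)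
  · exact (h _).1 (pow_orderOf_eq_one g)

include hcp in
omit [Fintype F] hp in
theorem exists_char : ∃ g : Matrix.GeneralLinearGroup (Fin 2) F, orderOf (pr F g) = p := by
  refine ⟨Matrix.GeneralLinearGroup.mkOfDetNeZero !![1, 1; 0, 1] (by simp [Matrix.det_fin_two_of]), ?_⟩
  apply orderOf_eq_of_pow_iff
  intro n
  rw [pr_pow_eq_one_iff]
  have : ∀ n : ℕ, (!![1, 1; 0, 1] : Matrix (Fin 2) (Fin 2) F) ^ n = !![1, (n : F); 0, 1] := by
    intro n
    induction n with
    | zero => simp [Matrix.one_fin_two]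
    | succ n ih =>
      rw [pow_succ, ih]
      ext i j
      fin_cases i <;> fin_cases j <;> simp [Matrix.mul_apply, Fin.sum_univ_two, add_comm]
  show IsScal ((!![1, 1; 0, 1] : Matrix (Fin 2) (Fin 2) F) ^ n) ↔ _
  rw [this, isScal_iff, ← CharP.cast_eq_zero_iff F p]
  simp

omit hp hcp in
theorem exists_sub : ∃ g : Matrix.GeneralLinearGroup (Fin 2) F, orderOf (pr F g) = Fintype.card F - 1 := by
  classical
  obtain ⟨w, hw⟩ := IsCyclic.exists_generator (α := Fˣ)
  have hord : orderOf w = Fintype.card F - 1 := by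
    rw [orderOf_eq_card_of_forall_mem_zpowers hw, Nat.card_eq_fintype_card, Fintype.card_units]
  refine ⟨Matrix.GeneralLinearGroup.mkOfDetNeZero !![(w : F), 0; 0, 1] (by simp [Matrix.det_fin_two_of]), ?_⟩
  apply orderOf_eq_of_pow_iff
  intro n
  rw [pr_pow_eq_one_iff]
  have : ∀ n : ℕ, (!![(w : F), 0; 0, 1] : Matrix (Fin 2) (Fin 2) F) ^ n = !![(w : F) ^ n, 0; 0, 1] := by
    intro n
    induction n with
    | zero => simp [Matrix.one_fin_two]
    | succ n ih =>
      rw [pow_succ, ih]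
      ext i j
      fin_cases i <;> fin_cases j <;> simp [Matrix.mul_apply, Fin.sum_univ_two, pow_succ]
  show IsScal ((!![(w : F), 0; 0, 1] : Matrix (Fin 2) (Fin 2) F) ^ n) ↔ _
  rw [this, isScal_iff, ← hord, orderOf_dvd_iff_pow_eq_one]
  simp [Units.ext_iff]

include hp hcp in
theorem exists_add : ∃ g : Matrix.GeneralLinearGroup (Fin 2) F, orderOf (pr F g) = Fintype.card F + 1 := by
  set q := Fintype.card F with hqdef
  have hq1 : 2 ≤ q := Fintype.one_lt_card
  have : CharP (AlgebraicClosure F) p := charP_of_injective_algebraMap (algebraMap F (AlgebraicClosure F)).injective p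
  obtain ⟨k, hk, hc⟩ := FiniteField.card F p
  have hqq : 1 ≤ q ^ 2 := Nat.one_le_pow _ _ (by omega)
  have hne : NeZero ((q ^ 2 - 1 : ℕ) : AlgebraicClosure F) := by
    constructor
    rw [Ne, CharP.cast_eq_zero_iff (AlgebraicClosure F) p]
    intro h
    have h2 : p ∣ q ^ 2 := by rw [hqdef, hc]; exact dvd_pow (dvd_pow_self _ k.2.ne') two_ne_zero
    have h3 := (Nat.dvd_sub_iff_right (by omega : 1 ≤ q ^ 2) h2).1 h
    exact hp.out.one_lt.ne' (Nat.dvd_one.1 h3)
  obtain ⟨u, hu⟩ := HasEnoughRootsOfUnity.exists_primitiveRoot (AlgebraicClosure F) (q ^ 2 - 1)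
  have hpos : 0 < q ^ 2 - 1 := by
    have : 2 ^ 2 ≤ q ^ 2 := Nat.pow_le_pow_left hq1 2
    omega
  have hord : orderOf u = q ^ 2 - 1 := hu.eq_orderOf.symm
  have hu0 : u ≠ 0 := hu.ne_zero hpos.ne'
  have huqq : u ^ (q * q) = u := by
    have h1 : u ^ (q ^ 2 - 1) = 1 := hu.pow_eq_one
    have h2 : q * q = (q ^ 2 - 1) + 1 := by rw [Nat.sub_add_cancel hqq, pow_two]
    rw [h2, pow_succ, h1, one_mul]
  set v := u ^ q with hv
  have hvq : v ^ q = u := by rw [hv, ← pow_mul, huqq]
  have hfix : (u + v) ^ q = u + v := by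
    have : (u + v) ^ q = u ^ q + v ^ q := by
      rw [hqdef, hc]
      exact add_pow_char_pow (R := AlgebraicClosure F) u v p k
    rw [this, hvq, add_comm]
  have hfixd : (u * v) ^ q = u * v := by
    rw [mul_pow, hvq, mul_comm]
  obtain ⟨t, ht⟩ := H390.PslSpec.mem_range_of_pow_card (algebraMap F (AlgebraicClosure F)) hfix
  obtain ⟨d, hd⟩ := H390.PslSpec.mem_range_of_pow_card (algebraMap F (AlgebraicClosure F)) hfixd
  have hd0 : d ≠ 0 := by
    intro h0
    rw [h0, map_zero] at hd
    exact mul_ne_zero hu0 (pow_ne_zero _ hu0) hd.symm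
  have hdet : (!![0, -d; 1, t] : Matrix (Fin 2) (Fin 2) F).det = d := by
    simp [Matrix.det_fin_two_of]
  refine ⟨Matrix.GeneralLinearGroup.mkOfDetNeZero !![0, -d; 1, t] (by rw [hdet]; exact hd0), ?_⟩
  apply orderOf_eq_of_pow_iff
  intro n
  rw [pr_pow_eq_one_iff]
  show IsScal ((!![0, -d; 1, t] : Matrix (Fin 2) (Fin 2) F) ^ n) ↔ _
  set f := algebraMap F (AlgebraicClosure F)
  rw [← isScal_map f, map_pow]
  have htr' : f.mapMatrix !![0, -d; 1, t] 0 0 + f.mapMatrix !![0, -d; 1, t] 1 1 = u + v := by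
    simp [← ht]
  have hdet' : (f.mapMatrix !![0, -d; 1, t]).det = u * v := by
    rw [← RingHom.map_det, hdet, hd]
  have hns : ¬ IsScal (f.mapMatrix !![0, -d; 1, t]) := by
    rw [isScal_map, isScal_iff]
    simp
  have hiff : u ^ n = v ^ n ↔ (q + 1) ∣ n := by
    have e1 : u ^ n = v ^ n ↔ u ^ (n * (q - 1)) = 1 := by
      have : v ^ n = u ^ (n * (q - 1)) * u ^ n := by
        rw [hv, ← pow_mul, ← pow_add]
        congr 1
        obtain ⟨m, hm⟩ := Nat.exists_eq_add_of_le hq1
        rw [hm, show 2 + m - 1 = 1 + m by omega]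
        ring
      rw [this]
      constructor
      · intro h
        apply mul_right_cancel₀ (pow_ne_zero n hu0)
        rw [one_mul]; exact h.symm
      · intro h
        rw [h, one_mul]
    rw [e1, ← orderOf_dvd_iff_pow_eq_one, hord]
    have e2 : q ^ 2 - 1 = (q + 1) * (q - 1) := by
      have := Nat.sq_sub_sq q 1
      rw [one_pow] at this
      exact this
    rw [e2]
    exact Nat.mul_dvd_mul_iff_right (by omega)
  constructor
  · intro h
    exact hiff.1 (eq_of_isScal_pow _ u v htr' hdet' hns n h)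
  · intro h
    have huv : u ≠ v := by
      intro h1
      have h2 : u ^ 1 = v ^ 1 := by rw [pow_one, pow_one]; exact h1
      have h3 : (q + 1) ∣ 1 := by
        have e1 : u ^ 1 = v ^ 1 → u ^ (1 * (q - 1)) = 1 := by
          intro _
          have : v = u ^ (q - 1) * u := by rw [hv, ← pow_succ, Nat.sub_add_cancel (by omega)]
          rw [one_mul]
          apply mul_right_cancel₀ hu0
          rw [one_mul, ← this]; exact h1.symm
        have e3 := e1 h2
        rw [one_mul, ← orderOf_dvd_iff_pow_eq_one, hord] at e3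
        have e2 : q ^ 2 - 1 = (q + 1) * (q - 1) := by
          have := Nat.sq_sub_sq q 1
          rw [one_pow] at this
          exact this
        rw [e2] at e3
        exact Nat.dvd_of_mul_dvd_mul_right (by omega : 0 < q - 1) (by rw [one_mul]; exact e3)
      have := Nat.le_of_dvd one_pos h3
      omega
    exact isScal_pow_of_eq _ u v htr' hdet' huv n (hiff.2 h)

/-- all divisors of an element order are element orders -/
theorem mem_range_of_dvd {G : Type*} [Group G] {n m : ℕ} (hm : m ∈ Set.range (orderOf : G → ℕ)) (hnm : n ∣ m)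
    (h0 : m ≠ 0) : n ∈ Set.range (orderOf : G → ℕ) := by
  obtain ⟨g, hg⟩ := hm
  obtain ⟨k, rfl⟩ := hnm
  refine ⟨g ^ k, ?_⟩
  have hk : k ≠ 0 := by rintro rfl; simp at h0
  rw [orderOf_pow_of_dvd hk (by rw [hg]; exact Dvd.intro_left _ rfl), hg, Nat.mul_div_cancel _ (Nat.pos_of_ne_zero hk)]

include hp hcp in
/-- **The spectrum of `PGL(2,q)`**, `q` a power of `p`: the divisors of `p`, `q - 1` and `q + 1`. -/
theorem range_orderOf :
    Set.range (orderOf : Matrix.GeneralLinearGroup (Fin 2) F ⧸ Subgroup.center (Matrix.GeneralLinearGroup (Fin 2) F) → ℕ) =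
      {n | n ∣ p ∨ n ∣ Fintype.card F - 1 ∨ n ∣ Fintype.card F + 1} := by
  ext n
  constructor
  · rintro ⟨x, rfl⟩
    obtain ⟨g, rfl⟩ := pr_surjective x
    exact order_dvd p g
  · have hq1 : 2 ≤ Fintype.card F := Fintype.one_lt_card
    rintro (h | h | h)
    · obtain ⟨g, hg⟩ := exists_char (F := F) p
      exact mem_range_of_dvd ⟨_, hg⟩ h hp.out.ne_zero
    · obtain ⟨g, hg⟩ := exists_sub (F := F)
      exact mem_range_of_dvd ⟨_, hg⟩ h (by omega)
    · obtain ⟨g, hg⟩ := exists_add (F := F) p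
      exact mem_range_of_dvd ⟨_, hg⟩ h (by omega)

end Fin

end Cfsg.Agent.H368.PGLSpec
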