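import Mathlib.GroupTheory.OrderOfElement
import Mathlib.GroupTheory.SemidirectProduct
import Mathlib.Tactic

/-!
# Element orders in a semidirect product with an elementary abelian kernel
-/

set_option autoImplicit false

namespace Cfsg.Agent.H368.SemiOrd

open Finset

variable {V G : Type*} [CommGroup V] [Group G] (φ : G →* MulAut V)

/-- the norm of `v` with respect to `g` -/
def nrm (g : G) (n : ℕ) (v : V) : V := ∏ i ∈ range n, φ (g ^ i) v

theorem pow_right (x : V ⋊[φ] G) (n : ℕ) : (x ^ n).right = x.right ^ n :=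
  map_pow (SemidirectProduct.rightHom : V ⋊[φ] G →* G) x n

theorem pow_left (x : V ⋊[φ] G) (n : ℕ) : (x ^ n).left = nrm φ x.right n x.left := by
  induction n with
  | zero => simp [nrm]
  | succ n ih =>
    rw [pow_succ, SemidirectProduct.mul_left, ih, pow_right, nrm, nrm, prod_range_succ]

theorem pow_orderOf_right (x : V ⋊[φ] G) :
    x ^ orderOf x.right = SemidirectProduct.inl (nrm φ x.right (orderOf x.right) x.left) := by
  apply SemidirectProduct.ext
  · rw [pow_left, SemidirectProduct.left_inl]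
  · rw [pow_right, SemidirectProduct.right_inl, pow_orderOf_eq_one]

theorem right_dvd (x : V ⋊[φ] G) : orderOf x.right ∣ orderOf x :=
  orderOf_map_dvd (SemidirectProduct.rightHom : V ⋊[φ] G →* G) x

/-- The order of `x = (v,g)` divides `r * o(g)`, when `V` has exponent `r`. -/
theorem dvd_mul {r : ℕ} (hV : ∀ v : V, v ^ r = 1) (x : V ⋊[φ] G) : orderOf x ∣ orderOf x.right * r := by
  apply orderOf_dvd_of_pow_eq_one
  rw [pow_mul, pow_orderOf_right, ← map_pow, hV, map_one]

theorem eq_of_nrm_eq_one (x : V ⋊[φ] G) (h : nrm φ x.right (orderOf x.right) x.left = 1) :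
    orderOf x = orderOf x.right := by
  apply Nat.dvd_antisymm _ (right_dvd φ x)
  apply orderOf_dvd_of_pow_eq_one
  rw [pow_orderOf_right, h, map_one]

theorem eq_of_nrm_ne_one [Finite G] {r : ℕ} (hr : r.Prime) (hV : ∀ v : V, v ^ r = 1) (x : V ⋊[φ] G)
    (h : nrm φ x.right (orderOf x.right) x.left ≠ 1) : orderOf x = orderOf x.right * r := by
  have hpos : 0 < orderOf x.right := orderOf_pos _
  obtain ⟨c, hc⟩ := right_dvd φ x
  have h2 := dvd_mul φ hV x
  rw [hc] at h2
  have h3 : c ∣ r := Nat.dvd_of_mul_dvd_mul_left hpos h2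
  rcases (Nat.dvd_prime hr).1 h3 with h4 | h4
  · exfalso
    apply h
    rw [h4, mul_one] at hc
    have h5 := pow_orderOf_right φ x
    rw [← hc, pow_orderOf_eq_one] at h5
    have h6 := congrArg SemidirectProduct.left h5
    rw [SemidirectProduct.one_left, SemidirectProduct.left_inl] at h6
    rw [← hc]
    exact h6.symm
  · rw [hc, h4]

/-- fixed point free elements -/
theorem nrm_eq_one_of_fixed [Finite G] {g : G} (h : ∀ v : V, φ g v = v → v = 1) (v : V) :
    nrm φ g (orderOf g) v = 1 := by
  apply h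
  rw [nrm, map_prod]
  have h1 : ∀ i, φ g (φ (g ^ i) v) = φ (g ^ (i + 1)) v := by
    intro i
    rw [pow_succ', map_mul, MulAut.mul_apply]
  simp_rw [h1]
  have hpos : 0 < orderOf g := orderOf_pos _
  obtain ⟨m, hm⟩ := Nat.exists_eq_succ_of_ne_zero hpos.ne'
  have h2 := pow_orderOf_eq_one g
  rw [hm] at h2 ⊢
  rw [prod_range_succ, prod_range_succ' (fun i => φ (g ^ i) v), pow_zero, h2]

end Cfsg.Agent.H368.SemiOrd
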