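import Mathlib.LinearAlgebra.Matrix.SpecialLinearGroup
import Mathlib.FieldTheory.Finite.Basic
import Mathlib.NumberTheory.LegendreSymbol.QuadraticChar.Basic
import Mathlib.Tactic
import Cfsg.Agent.ClassicalGeometry.NonsplitTorus

/-!
# The "upper half plane" of a finite field: algebra

`X c` is the set of traceless `2 × 2` matrices of determinant `c` (where `-c` will be a nonsquare), with
`SL(2,F)` acting by conjugation.
-/

set_option autoImplicit false

namespace Cfsg.Agent.H368.CuspAlg

open Matrix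

variable {F : Type*} [Field F]

local notation "SL2" => Matrix.SpecialLinearGroup (Fin 2) F

/-- Traceless matrices of determinant `c`. -/
def X (c : F) : Type _ := {A : Matrix (Fin 2) (Fin 2) F // A 0 0 + A 1 1 = 0 ∧ A.det = c}

instance finX [Finite F] (c : F) : Finite (X c) := by unfold X; infer_instance

theorem tr_conj (g : SL2) (A : Matrix (Fin 2) (Fin 2) F) :
    ((g : Matrix (Fin 2) (Fin 2) F) * A * ((g⁻¹ : SL2) : Matrix (Fin 2) (Fin 2) F)).trace = A.trace := by
  rw [mul_assoc, Matrix.trace_mul_comm, mul_assoc, ← Matrix.SpecialLinearGroup.coe_mul, inv_mul_cancel]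
  simp

theorem tr_eq (A : Matrix (Fin 2) (Fin 2) F) : A.trace = A 0 0 + A 1 1 := by
  simp [Matrix.trace, Fin.sum_univ_two]

/-- conjugation -/
instance actX (c : F) : MulAction SL2 (X c) where
  smul g A := ⟨(g : Matrix (Fin 2) (Fin 2) F) * A.1 * ((g⁻¹ : SL2) : Matrix (Fin 2) (Fin 2) F), by
    rw [← tr_eq, tr_conj, tr_eq]; exact A.2.1, by
    rw [Matrix.det_mul, Matrix.det_mul, A.2.2, Matrix.SpecialLinearGroup.det_coe,
      Matrix.SpecialLinearGroup.det_coe, one_mul, mul_one]⟩
  one_smul A := by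
    apply Subtype.ext
    show ((1 : SL2) : Matrix (Fin 2) (Fin 2) F) * A.1 * (((1 : SL2)⁻¹ : SL2) : Matrix (Fin 2) (Fin 2) F) = A.1
    simp
  mul_smul g h A := by
    apply Subtype.ext
    show ((g * h : SL2) : Matrix (Fin 2) (Fin 2) F) * A.1 * (((g * h)⁻¹ : SL2) : Matrix (Fin 2) (Fin 2) F) =
      (g : Matrix (Fin 2) (Fin 2) F) * ((h : Matrix (Fin 2) (Fin 2) F) * A.1 * ((h⁻¹ : SL2) : Matrix (Fin 2) (Fin 2) F)) *
        ((g⁻¹ : SL2) : Matrix (Fin 2) (Fin 2) F)
    rw [_root_.mul_inv_rev, Matrix.SpecialLinearGroup.coe_mul, Matrix.SpecialLinearGroup.coe_mul]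
    simp only [mul_assoc]

theorem smul_val {c : F} (g : SL2) (A : X c) : (g • A).1 =
    (g : Matrix (Fin 2) (Fin 2) F) * A.1 * ((g⁻¹ : SL2) : Matrix (Fin 2) (Fin 2) F) := rfl

/-- the bilinear form -/
def bil (A B : Matrix (Fin 2) (Fin 2) F) : F := (A * B).trace

theorem bil_eq (A B : Matrix (Fin 2) (Fin 2) F) :
    bil A B = A 0 0 * B 0 0 + A 0 1 * B 1 0 + A 1 0 * B 0 1 + A 1 1 * B 1 1 := by
  simp [bil, tr_eq, Matrix.mul_apply, Fin.sum_univ_two]; ring

theorem bil_smul {c : F} (g : SL2) (A B : X c) : bil (g • A).1 (g • B).1 = bil A.1 B.1 := by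
  have h : (g • A).1 * (g • B).1 =
      (g : Matrix (Fin 2) (Fin 2) F) * (A.1 * B.1) * ((g⁻¹ : SL2) : Matrix (Fin 2) (Fin 2) F) := by
    rw [smul_val, smul_val]
    have h1 : ((g⁻¹ : SL2) : Matrix (Fin 2) (Fin 2) F) * (g : Matrix (Fin 2) (Fin 2) F) = 1 := by
      rw [← Matrix.SpecialLinearGroup.coe_mul, inv_mul_cancel]; simp
    calc _ = (g : Matrix (Fin 2) (Fin 2) F) * A.1 * (((g⁻¹ : SL2) : Matrix (Fin 2) (Fin 2) F) *
          (g : Matrix (Fin 2) (Fin 2) F)) * B.1 * ((g⁻¹ : SL2) : Matrix (Fin 2) (Fin 2) F) := by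
          simp only [mul_assoc]
      _ = _ := by rw [h1, mul_one]; simp only [mul_assoc]
  rw [bil, h, tr_conj, bil]

theorem bil_smul' {c : F} (g : SL2) (A B : X c) : bil (g • A).1 B.1 = bil A.1 (g⁻¹ • B).1 := by
  rw [← bil_smul g A (g⁻¹ • B), smul_inv_smul]

/-- upper unitriangular matrices -/
def u (t : F) : SL2 := ⟨!![1, t; 0, 1], by rw [Matrix.det_fin_two_of]; ring⟩

theorem u_val (t : F) : (u t : Matrix (Fin 2) (Fin 2) F) = !![1, t; 0, 1] := rfl

theorem u_mul (s t : F) : u s * u t = u (s + t) := by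
  apply Subtype.ext
  rw [Matrix.SpecialLinearGroup.coe_mul, u_val, u_val, u_val]
  ext i j
  fin_cases i <;> fin_cases j <;> simp [Matrix.mul_apply, Fin.sum_univ_two, add_comm]

theorem u_zero : u (0 : F) = 1 := by
  apply Subtype.ext
  rw [u_val]
  ext i j
  fin_cases i <;> fin_cases j <;> simp

theorem u_inv (t : F) : (u t)⁻¹ = u (-t) := by
  rw [inv_eq_iff_mul_eq_one, u_mul, add_neg_cancel, u_zero]

theorem u_pow (t : F) (n : ℕ) : u t ^ n = u ((n : F) * t) := by
  induction n with
  | zero => rw [pow_zero, Nat.cast_zero, zero_mul, u_zero]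
  | succ n ih => rw [pow_succ, ih, u_mul]; congr 1; push_cast; ring

/-- The trace form along a horocycle. -/
theorem bil_u {c : F} (t : F) (A B : X c) : bil (u t • A).1 B.1 =
    -(A.1 1 0 * B.1 1 0) * t ^ 2 + (2 * (A.1 1 0 * B.1 0 0 - A.1 0 0 * B.1 1 0)) * t + bil A.1 B.1 := by
  have hA := A.2.1
  have hB := B.2.1
  rw [bil_eq, bil_eq, smul_val, u_inv, u_val, u_val]
  simp only [Matrix.mul_apply, Fin.sum_univ_two]
  simp
  have hA' : A.1 1 1 = - A.1 0 0 := by linear_combination hA
  have hB' : B.1 1 1 = - B.1 0 0 := by linear_combination hB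
  rw [hA', hB']
  ring

theorem det_eq {c : F} (A : X c) : A.1 0 0 ^ 2 + A.1 0 1 * A.1 1 0 = -c := by
  have h1 := A.2.1
  have h2 := A.2.2
  rw [Matrix.det_fin_two] at h2
  linear_combination (A.1 0 0) * h1 - h2

theorem ne10 {c : F} (hc : ¬ IsSquare (-c)) (A : X c) : A.1 1 0 ≠ 0 := by
  intro h
  apply hc
  refine ⟨A.1 0 0, ?_⟩
  have := det_eq A
  rw [h] at this
  linear_combination -this

theorem ne01 {c : F} (hc : ¬ IsSquare (-c)) (A : X c) : A.1 0 1 ≠ 0 := by
  intro h
  apply hc
  refine ⟨A.1 0 0, ?_⟩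
  have := det_eq A
  rw [h] at this
  linear_combination -this

/-- The discriminant of the quadratic polynomial in `bil_u` does not vanish. -/
theorem disc_ne {c β : F} (hc : ¬ IsSquare (-c)) (hβ : ¬ IsSquare (β ^ 2 - 4 * c ^ 2)) (A B : X c) :
    (2 * (A.1 1 0 * B.1 0 0 - A.1 0 0 * B.1 1 0)) ^ 2 - 4 * (-(A.1 1 0 * B.1 1 0)) * (bil A.1 B.1 - β) ≠ 0 := by
  intro h
  have hA := A.2.1
  have hB := B.2.1
  have hA' : A.1 1 1 = - A.1 0 0 := by linear_combination hA
  have hB' : B.1 1 1 = - B.1 0 0 := by linear_combination hB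
  have dA := det_eq A
  have dB := det_eq B
  rw [bil_eq, hA', hB'] at h
  have h2 : (2 : F) ≠ 0 := by
    intro h2
    apply hβ
    refine ⟨β, ?_⟩
    have : (4 : F) = 0 := by linear_combination 2 * h2
    rw [this]; ring
  have h4 : (4 : F) ≠ 0 := by
    have : (4 : F) = 2 * 2 := by norm_num
    rw [this]; exact mul_ne_zero h2 h2
  have key : c * (A.1 1 0) ^ 2 + β * (A.1 1 0) * (B.1 1 0) + c * (B.1 1 0) ^ 2 = 0 := by
    apply mul_left_cancel₀ h4
    linear_combination -h + 4 * (A.1 1 0) ^ 2 * dB + 4 * (B.1 1 0) ^ 2 * dA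
  apply hβ
  have he := ne10 hc B
  refine ⟨(2 * c * A.1 1 0 + β * B.1 1 0) / B.1 1 0, ?_⟩
  field_simp
  linear_combination (-4 * c) * key

/-- A traceless matrix of determinant zero orthogonal to an elliptic one vanishes. -/
theorem eq_zero_of_orth {c : F} (hc : ¬ IsSquare (-c)) (A : X c) (W : Matrix (Fin 2) (Fin 2) F)
    (htr : W 0 0 + W 1 1 = 0) (hdet : W 0 0 ^ 2 + W 0 1 * W 1 0 = 0) (horth : bil W A.1 = 0) : W = 0 := by
  have hA := A.2.1
  have hA' : A.1 1 1 = - A.1 0 0 := by linear_combination hA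
  have hW' : W 1 1 = - W 0 0 := by linear_combination htr
  have dA := det_eq A
  rw [bil_eq, hA', hW'] at horth
  have hb := ne01 hc A
  have he := ne10 hc A
  have key : (A.1 0 1 * W 1 0 + A.1 0 0 * W 0 0) ^ 2 = -c * W 0 0 ^ 2 := by
    linear_combination (A.1 0 1 * W 1 0) * horth - (A.1 0 1 * A.1 1 0) * hdet + (W 0 0 ^ 2) * dA
  have hw1 : W 0 0 = 0 := by
    by_contra hne
    apply hc
    refine ⟨(A.1 0 1 * W 1 0 + A.1 0 0 * W 0 0) / W 0 0, ?_⟩
    field_simp
    linear_combination -key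
  rw [hw1] at key horth hdet
  have hw3 : W 1 0 = 0 := by
    have : (A.1 0 1 * W 1 0) ^ 2 = 0 := by linear_combination key
    have := pow_eq_zero_iff (two_ne_zero) |>.1 this
    exact (mul_eq_zero.1 this).resolve_left hb
  rw [hw3] at horth
  have hw2 : W 0 1 = 0 := by
    have : W 0 1 * A.1 1 0 = 0 := by linear_combination horth
    exact (mul_eq_zero.1 this).resolve_right he
  ext i j
  fin_cases i <;> fin_cases j <;> simp [hw1, hw2, hw3, hW']

/-- Two traceless matrices commuting with a nonscalar matrix are proportional, in the form: the discriminant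
of the plane they span vanishes. -/
theorem isSquare_of_comm {c : F} (P : Matrix (Fin 2) (Fin 2) F)
    (hP : ¬ (P 0 1 = 0 ∧ P 1 0 = 0 ∧ P 0 0 = P 1 1)) (A B : X c) (h1 : P * A.1 = A.1 * P) (h2 : P * B.1 = B.1 * P) :
    (bil A.1 B.1) ^ 2 - 4 * c ^ 2 = 0 := by
  have hA := A.2.1
  have hB := B.2.1
  have hA' : A.1 1 1 = - A.1 0 0 := by linear_combination hA
  have hB' : B.1 1 1 = - B.1 0 0 := by linear_combination hB
  have dA := det_eq A
  have dB := det_eq B
  have a00 := congrFun (congrFun h1 0) 0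
  have a01 := congrFun (congrFun h1 0) 1
  have a10 := congrFun (congrFun h1 1) 0
  have b00 := congrFun (congrFun h2 0) 0
  have b01 := congrFun (congrFun h2 0) 1
  have b10 := congrFun (congrFun h2 1) 0
  simp only [Matrix.mul_apply, Fin.sum_univ_two, hA', hB'] at a00 a01 a10 b00 b01 b10
  rw [bil_eq, hA', hB']
  set x := P 0 0 - P 1 1 with hx
  set a := A.1 0 0
  set b := A.1 0 1
  set e := A.1 1 0
  set a' := B.1 0 0
  set b' := B.1 0 1
  set e' := B.1 1 0
  -- cross products
  have c1 : P 0 1 * e = P 1 0 * b := by linear_combination a00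
  have c2 : x * b = 2 * a * P 0 1 := by rw [hx]; linear_combination a01
  have c3 : x * e = 2 * a * P 1 0 := by rw [hx]; linear_combination -a10
  have d1 : P 0 1 * e' = P 1 0 * b' := by linear_combination b00
  have d2 : x * b' = 2 * a' * P 0 1 := by rw [hx]; linear_combination b01
  have d3 : x * e' = 2 * a' * P 1 0 := by rw [hx]; linear_combination -b10
  have hid : (a * a' + b * e' + e * b' + -a * -a') ^ 2 - 4 * c ^ 2 =
      (b * e' - e * b') ^ 2 - 4 * (a * b' - b * a') * (a * e' - e * a') := by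
    have : (4 : F) * c ^ 2 = 4 * (a ^ 2 + b * e) * (a' ^ 2 + b' * e') := by rw [dA, dB]; ring
    rw [this]; ring
  rw [hid]
  have hcross : b * e' - e * b' = 0 ∧ 2 * (a * b' - b * a') = 0 ∧ 2 * (a * e' - e * a') = 0 := by
    by_cases h01 : P 0 1 = 0
    · by_cases h10 : P 1 0 = 0
      · have hx0 : x ≠ 0 := by
          intro h0
          exact hP ⟨h01, h10, by rw [hx] at h0; linear_combination h0⟩
        rw [h01] at c2 d2
        rw [h10] at c3 d3
        have hb0 : b = 0 := by
          apply mul_left_cancel₀ hx0; linear_combination c2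
        have he0 : e = 0 := by
          apply mul_left_cancel₀ hx0; linear_combination c3
        have hb0' : b' = 0 := by
          apply mul_left_cancel₀ hx0; linear_combination d2
        have he0' : e' = 0 := by
          apply mul_left_cancel₀ hx0; linear_combination d3
        rw [hb0, he0, hb0', he0']
        refine ⟨by ring, by ring, by ring⟩
      · have hf : b * e' - e * b' = 0 := by
          apply mul_left_cancel₀ h10
          linear_combination (-e') * c1 + e * d1
        refine ⟨hf, ?_, ?_⟩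
        · apply mul_left_cancel₀ h10
          linear_combination (-b') * c3 + b * d3 - x * hf
        · apply mul_left_cancel₀ h10
          linear_combination (-e') * c3 + e * d3
    · have hf : b * e' - e * b' = 0 := by
        apply mul_left_cancel₀ h01
        linear_combination b * d1 - b' * c1
      refine ⟨hf, ?_, ?_⟩
      · apply mul_left_cancel₀ h01
        linear_combination (-b') * c2 + b * d2
      · apply mul_left_cancel₀ h01
        linear_combination (-e') * c2 + e * d2 + x * hf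
  obtain ⟨h1, h2', h3⟩ := hcross
  have h4 : 4 * (a * b' - b * a') * (a * e' - e * a') = 0 := by
    have : 4 * (a * b' - b * a') * (a * e' - e * a') = (2 * (a * b' - b * a')) * (2 * (a * e' - e * a')) := by ring
    rw [this, h2', zero_mul]
  rw [h1, h4]; ring

end Cfsg.Agent.H368.CuspAlg
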