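import Cfsg.Agent.H368.Cusp

/-!
# The spectrum of the cuspidal extension

`exists_group` : for a field `F` with `p ≥ 5` elements, `p` prime, there is a finite group with a nontrivial
abelian normal subgroup and the spectrum of `PGL(2,p)`.
-/

set_option autoImplicit false
set_option linter.unusedSectionVars false

namespace Cfsg.Agent.H368.CuspSpec

open Matrix Cfsg.Agent.H368.CuspAlg Cfsg.Agent.H368.Cusp

variable {F : Type*} [Field F] [Fintype F]

local notation "SL2" => Matrix.SpecialLinearGroup (Fin 2) F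

theorem smul_of_neg {c : F} (M : SL2) (h : (M : Matrix (Fin 2) (Fin 2) F) = -1) : pj c M = 1 := by
  rw [pj_eq_one_iff]
  intro A
  apply Subtype.ext
  have h1 : ((M⁻¹ : SL2) : Matrix (Fin 2) (Fin 2) F) = -1 := by
    have h2 : M * M = 1 := by
      apply Subtype.ext
      rw [Matrix.SpecialLinearGroup.coe_mul, h]; simp
    rw [inv_eq_of_mul_eq_one_right h2, h]
  rw [smul_val, h, h1]
  simp

theorem pj_eq_one_of_pr {c : F} (M : SL2) (h : H390.PslSpec.pr F M = 1) : pj c M = 1 := by
  rcases (H390.PslSpec.pr_eq_one_iff M).1 h with h | h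
  · have : M = 1 := Subtype.ext h
    rw [this, map_one]
  · exact smul_of_neg M h

/-- unipotent elements of `SL(2,F)` are conjugate to some `u s` -/
theorem exists_conj_u (p : ℕ) [hp : Fact p.Prime] [CharP F p] (M : SL2) (hM : M ^ p = 1) :
    ∃ (g : SL2) (s : F), M = g * u s * g⁻¹ := by
  -- `N = M - 1` is nilpotent
  set N : Matrix (Fin 2) (Fin 2) F := (M : Matrix (Fin 2) (Fin 2) F) - 1 with hN
  have : CharP (Matrix (Fin 2) (Fin 2) F) p := Matrix.charP (n := Fin 2) (R := F) p
  have hNp : N ^ p = 0 := by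
    rw [hN, sub_pow_char_of_commute (R := Matrix (Fin 2) (Fin 2) F) (p := p) (Commute.one_right _), one_pow,
      ← Matrix.SpecialLinearGroup.coe_pow, hM]
    simp
  have hnil : IsNilpotent N := ⟨p, hNp⟩
  have htr : N 0 0 + N 1 1 = 0 := by
    have := Matrix.isNilpotent_trace_of_isNilpotent hnil
    rw [← tr_eq]
    exact this.eq_zero
  have hdet : N.det = 0 := by
    have h1 := congrArg Matrix.det hNp
    rw [Matrix.det_pow, Matrix.det_zero] at h1
    exact pow_eq_zero_iff hp.out.ne_zero |>.1 h1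
  rw [Matrix.det_fin_two] at hdet
  have hM' : (M : Matrix (Fin 2) (Fin 2) F) = 1 + N := by rw [hN]; abel
  by_cases he : N 1 0 = 0
  · have ha : N 0 0 = 0 := by
      have : N 0 0 ^ 2 = 0 := by
        have h11 : N 1 1 = - N 0 0 := by linear_combination htr
        rw [he, h11] at hdet
        linear_combination -hdet
      exact pow_eq_zero_iff two_ne_zero |>.1 this
    have h11 : N 1 1 = 0 := by rw [ha] at htr; linear_combination htr
    refine ⟨1, N 0 1, ?_⟩
    rw [one_mul, inv_one, mul_one]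
    apply Subtype.ext
    rw [u_val, hM']
    ext i j
    fin_cases i <;> fin_cases j <;> simp [ha, h11, he]
  · set g : SL2 := ⟨!![N 0 0, -(N 1 0)⁻¹; N 1 0, 0], by
      rw [Matrix.det_fin_two_of]; field_simp; ring⟩ with hg
    refine ⟨g, -(N 1 0)⁻¹, ?_⟩
    rw [eq_mul_inv_iff_mul_eq]
    apply Subtype.ext
    rw [Matrix.SpecialLinearGroup.coe_mul, Matrix.SpecialLinearGroup.coe_mul, u_val, hM', hg]
    have h11 : N 1 1 = - N 0 0 := by linear_combination htr
    rw [h11] at hdet
    ext i j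
    fin_cases i <;> fin_cases j <;> simp [Matrix.mul_apply, Fin.sum_univ_two, h11]
    · linear_combination -hdet
    · field_simp
      ring
    · ring

/-- products over the powers of a unipotent element -/
theorem prod_u (p : ℕ) [Fact p.Prime] [CharP F p] (hF : Fintype.card F = p) {c : F} (f : V c) (g : SL2) (s : F)
    (hs : s ≠ 0) (A : X c) : ∏ i ∈ Finset.range p, f.1 (((g * u s * g⁻¹) ^ i)⁻¹ • A) = 1 := by
  classical
  have h1 : ∀ i : ℕ, ((g * u s * g⁻¹) ^ i)⁻¹ • A = g • (u (-((i : F) * s)) • (g⁻¹ • A)) := by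
    intro i
    have : (g * u s * g⁻¹) ^ i = g * u ((i : F) * s) * g⁻¹ := by
      rw [conj_pow, u_pow]
    rw [this, ← mul_smul, ← mul_smul, ← u_inv]
    congr 1
    group
  simp_rw [h1]
  have h2 := f.2 g (g⁻¹ • A)
  rw [← h2]
  have hinj : Set.InjOn (fun i : ℕ => -((i : F) * s)) (Finset.range p : Set ℕ) := by
    intro i hi j hj hij
    simp only [Finset.coe_range, Set.mem_Iio] at hi hj
    have h3 : (i : F) = (j : F) := by
      apply mul_right_cancel₀ hs
      simpa using hij
    exact CharP.natCast_injOn_Iio F p hi hj h3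
  have himg : (Finset.range p).image (fun i : ℕ => -((i : F) * s)) = Finset.univ := by
    apply Finset.eq_univ_of_card
    rw [Finset.card_image_of_injOn hinj, Finset.card_range, hF]
  rw [← himg, Finset.prod_image hinj]

/-- **Upper bound for the element orders.** -/
theorem order_dvd (p : ℕ) [hp : Fact p.Prime] [CharP F p] (hF : Fintype.card F = p) (hp2 : p ≠ 2) {c : F}
    (x : V c ⋊[act c] G0 c) : orderOf x ∣ p ∨ orderOf x ∣ p - 1 ∨ orderOf x ∣ p + 1 := by
  have hodd : Odd p := hp.out.odd_of_ne_two hp2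
  obtain ⟨M, hM⟩ := pj_surj c x.right
  have hdd : H390.PslSpec.dd (Fintype.card F) = 2 := by
    rw [hF]; exact H390.PslSpec.dd_odd hodd
  have h2dvd : orderOf x ∣ orderOf x.right * 2 := SemiOrd.dvd_mul (act c) V_sq x
  have hright : orderOf x.right ∣ orderOf (H390.PslSpec.pr F M) := by
    apply orderOf_dvd_of_pow_eq_one
    rw [← hM, ← map_pow]
    apply pj_eq_one_of_pr
    rw [map_pow, pow_orderOf_eq_one]
  have hev1 : 2 ∣ p - 1 := by obtain ⟨k, hk⟩ := hodd; exact ⟨k, by omega⟩
  have hev2 : 2 ∣ p + 1 := by obtain ⟨k, hk⟩ := hodd; exact ⟨k + 1, by omega⟩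
  rcases H390.PslSpec.order_dvd (p := p) M with h | h | h
  · -- unipotent
    have hMp : (H390.PslSpec.pr F M) ^ p = 1 := orderOf_dvd_iff_pow_eq_one.1 h
    -- replace `M` by `± M`
    obtain ⟨M', hM'p, hM'⟩ : ∃ M' : SL2, M' ^ p = 1 ∧ pj c M' = x.right := by
      rcases (H390.PslSpec.pr_pow_eq_one_iff M p).1 hMp with h1 | h1
      · exact ⟨M, Subtype.ext (by rw [Matrix.SpecialLinearGroup.coe_pow, h1]; simp), hM⟩
      · refine ⟨M ^ (p + 1), ?_, ?_⟩
        · rw [← pow_mul, mul_comm, pow_mul]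
          apply Subtype.ext
          rw [Matrix.SpecialLinearGroup.coe_pow, Matrix.SpecialLinearGroup.coe_pow, h1]
          rw [Even.neg_one_pow (Nat.even_add_one.2 (Nat.not_even_iff_odd.2 hodd))]
          simp
        · rw [pow_succ, map_mul, smul_of_neg (M ^ p) (by rw [Matrix.SpecialLinearGroup.coe_pow, h1]), one_mul, hM]
    obtain ⟨g, s, hgs⟩ := exists_conj_u p M' hM'p
    by_cases hs : s = 0
    · right; left
      have h1 : M' = 1 := by rw [hgs, hs, u_zero, mul_one, mul_inv_cancel]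
      have h2 : x.right = 1 := by rw [← hM', h1, map_one]
      rw [h2, orderOf_one, one_mul] at h2dvd
      exact h2dvd.trans hev1
    · left
      have hxp : x.right ^ p = 1 := by rw [← hM', ← map_pow, hM'p, map_one]
      apply orderOf_dvd_of_pow_eq_one
      apply SemidirectProduct.ext
      · rw [SemiOrd.pow_left, SemidirectProduct.one_left]
        apply Subtype.ext
        funext A
        rw [← hM', nrm_apply, hgs, prod_u p hF x.left g s hs A]
        rfl
      · rw [SemiOrd.pow_right, hxp, SemidirectProduct.one_right]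
  · right; left
    rw [hdd, hF] at h
    refine h2dvd.trans ((Nat.mul_dvd_mul_right (hright.trans h) 2).trans ?_)
    rw [Nat.div_mul_cancel hev1]
  · right; right
    rw [hdd, hF] at h
    refine h2dvd.trans ((Nat.mul_dvd_mul_right (hright.trans h) 2).trans ?_)
    rw [Nat.div_mul_cancel hev2]

/-- elements of order `p` -/
theorem exists_p (p : ℕ) [hp : Fact p.Prime] [CharP F p] {c : F} (hc : ¬ IsSquare (-c)) :
    ∃ x : V c ⋊[act c] G0 c, orderOf x = p := by
  have h1 : orderOf (pj c (u (1 : F))) = p := by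
    apply orderOf_eq_prime
    · rw [← map_pow, u_pow, mul_one, CharP.cast_eq_zero, u_zero, map_one]
    · intro h
      rw [pj_eq_one_iff] at h
      set A : X c := ⟨!![0, 1; -c, 0], by simp, by rw [Matrix.det_fin_two_of]; ring⟩ with hA
      have h2 := congrArg Subtype.val (h A)
      rw [smul_val, u_inv, u_val, u_val] at h2
      have h3 := congrFun (congrFun h2 1) 1
      simp [hA, Matrix.mul_apply, Fin.sum_univ_two] at h3
      apply hc
      rw [h3]
      exact ⟨0, by simp⟩
  refine ⟨SemidirectProduct.inr (pj c (u (1 : F))), ?_⟩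
  rw [orderOf_injective (SemidirectProduct.inr : G0 c →* V c ⋊[act c] G0 c) SemidirectProduct.inr_injective, h1]

/-- `bil² - 4 c²` for the two points `x J ± y K` -/
theorem not_square {c x y : F} (hc : ¬ IsSquare (-c)) (h2 : (2 : F) ≠ 0) (hx : x ≠ 0) (hy : y ≠ 0) :
    ¬ IsSquare (-16 * c * x ^ 2 * y ^ 2) := by
  rintro ⟨r, hr⟩
  apply hc
  have h4 : (4 : F) ≠ 0 := by
    have : (4 : F) = 2 * 2 := by norm_num
    rw [this]; exact mul_ne_zero h2 h2
  refine ⟨r / (4 * x * y), ?_⟩
  field_simp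
  linear_combination hr

/-- a sum `1 + y²` that is a nonsquare -/
theorem exists_one_add_sq (p : ℕ) [Fact p.Prime] [CharP F p] (hF : Fintype.card F = p) {c : F}
    (hc : ¬ IsSquare c) : ∃ y : F, ¬ IsSquare (1 + y ^ 2) := by
  classical
  by_contra hcon
  push Not at hcon
  have h1 : ∀ n : ℕ, IsSquare (n : F) := by
    intro n
    induction n with
    | zero => exact ⟨0, by simp⟩
    | succ n ih =>
      obtain ⟨r, hr⟩ := ih
      have := hcon r
      rw [pow_two, ← hr, add_comm] at this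
      simpa using this
  have himg : (Finset.range p).image (fun i : ℕ => (i : F)) = Finset.univ := by
    apply Finset.eq_univ_of_card
    rw [Finset.card_image_of_injOn, Finset.card_range, hF]
    intro i hi j hj hij
    simp only [Finset.coe_range, Set.mem_Iio] at hi hj
    exact CharP.natCast_injOn_Iio F p hi hj hij
  have hcm : c ∈ (Finset.range p).image (fun i : ℕ => (i : F)) := by rw [himg]; exact Finset.mem_univ _
  obtain ⟨i, -, hi⟩ := Finset.mem_image.1 hcm
  apply hc
  rw [← hi]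
  exact h1 i

/-- the product of two nonsquares is a square -/
theorem isSquare_mul {a b : F} (ha : ¬ IsSquare a) (hb : ¬ IsSquare b) : IsSquare (a * b) := by
  classical
  have ha0 : a ≠ 0 := by rintro rfl; exact ha ⟨0, by simp⟩
  have hb0 : b ≠ 0 := by rintro rfl; exact hb ⟨0, by simp⟩
  rw [← quadraticChar_one_iff_isSquare (mul_ne_zero ha0 hb0), map_mul,
    quadraticChar_neg_one_iff_not_isSquare.2 ha, quadraticChar_neg_one_iff_not_isSquare.2 hb]
  norm_num

theorem split_pt {c x y : F} (h : x ^ 2 = -c * (1 + y ^ 2)) :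
    (!![x, c * y; y, -x] : Matrix (Fin 2) (Fin 2) F) 0 0 + (!![x, c * y; y, -x] : Matrix (Fin 2) (Fin 2) F) 1 1 = 0 ∧
      (!![x, c * y; y, -x] : Matrix (Fin 2) (Fin 2) F).det = c := by
  refine ⟨by simp, ?_⟩
  rw [Matrix.det_fin_two_of]
  linear_combination -h

/-- elements of order `p - 1` -/
theorem exists_sub (p : ℕ) [hp : Fact p.Prime] [CharP F p] (hF : Fintype.card F = p) (hp5 : 5 ≤ p) {c : F}
    (hc : ¬ IsSquare (-c)) : ∃ x : V c ⋊[act c] G0 c, orderOf x = p - 1 := by
  classical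
  have hodd : Odd p := hp.out.odd_of_ne_two (by omega)
  have hchar : ringChar F ≠ 2 := by rw [ringChar.eq F p]; omega
  have h2 : (2 : F) ≠ 0 := Ring.two_ne_zero hchar
  obtain ⟨y, hy⟩ := exists_one_add_sq p hF hc
  have hy0 : y ≠ 0 := by
    rintro rfl
    exact hy ⟨1, by ring⟩
  obtain ⟨x, hx⟩ := isSquare_mul hc hy
  have hx' : x ^ 2 = -c * (1 + y ^ 2) := by rw [hx]; ring
  have hx0 : x ≠ 0 := by
    rintro rfl
    have h1 : -c * (1 + y ^ 2) = 0 := by rw [← hx']; ring
    rcases mul_eq_zero.1 h1 with h | h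
    · exact hc (by rw [h]; exact ⟨0, by simp⟩)
    · exact hy (by rw [h]; exact ⟨0, by simp⟩)
  set A0 : X c := ⟨!![x, c * y; y, -x], split_pt hx'⟩ with hA0
  set A1 : X c := ⟨!![x, c * (-y); (-y), -x], split_pt (by rw [hx']; ring)⟩ with hA1
  have hbil : bil A0.1 A1.1 = 2 * x ^ 2 - 2 * c * y ^ 2 := by
    rw [bil_eq, hA0, hA1]; simp; ring
  have hdisc : ¬ IsSquare ((bil A0.1 A1.1) ^ 2 - 4 * c ^ 2) := by
    have : (bil A0.1 A1.1) ^ 2 - 4 * c ^ 2 = -16 * c * x ^ 2 * y ^ 2 := by
      rw [hbil]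
      have e : c = -x ^ 2 - c * y ^ 2 := by linear_combination hx'
      have e2 : 4 * c ^ 2 = 4 * (-x ^ 2 - c * y ^ 2) ^ 2 := by rw [← e]
      rw [e2]; ring
    rw [this]
    exact not_square hc h2 hx0 hy0
  obtain ⟨w, hw⟩ := IsCyclic.exists_generator (α := Fˣ)
  have hord : orderOf w = p - 1 := by
    rw [orderOf_eq_card_of_forall_mem_zpowers hw, Nat.card_eq_fintype_card, Fintype.card_units, hF]
  set M : SL2 := ⟨!![(w : F), 0; 0, ((w⁻¹ : Fˣ) : F)], by rw [Matrix.det_fin_two_of]; simp⟩ with hM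
  have hMi : ∀ i : ℕ, (M : Matrix (Fin 2) (Fin 2) F) ^ i = !![((w ^ i : Fˣ) : F), 0; 0, (((w ^ i)⁻¹ : Fˣ) : F)] := by
    intro i
    induction i with
    | zero => simp [Matrix.one_fin_two]
    | succ n ih =>
      rw [pow_succ, ih]
      ext i j
      fin_cases i <;> fin_cases j <;> simp [hM, Matrix.mul_apply, Fin.sum_univ_two, pow_succ]
      ring
  obtain ⟨k, hk⟩ := hodd
  have hn : (p - 1) = k * 2 := by omega
  have hk2 : 2 ≤ k := by omega
  rw [hn]
  apply Cusp.exists_orderOf hc A0 A1 hdisc M k (by omega)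
  · -- `M ^ k = ± 1`
    have h1 : (w ^ k) * (w ^ k) = 1 := by
      rw [← pow_add, ← two_mul, mul_comm, ← hn, ← hord, pow_orderOf_eq_one]
    have h3 : ((w ^ k : Fˣ) : F) * ((w ^ k : Fˣ) : F) = 1 := by
      rw [← Units.val_mul, h1]; rfl
    have h4 : (((w ^ k)⁻¹ : Fˣ) : F) = ((w ^ k : Fˣ) : F) := by
      rw [inv_eq_of_mul_eq_one_right h1]
    rcases mul_self_eq_one_iff.1 h3 with h | h
    · have : M ^ k = 1 := by
        apply Subtype.ext
        rw [Matrix.SpecialLinearGroup.coe_pow, hMi, h4, h]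
        simp [Matrix.one_fin_two]
      rw [this, map_one]
    · apply smul_of_neg
      rw [Matrix.SpecialLinearGroup.coe_pow, hMi, h4, h]
      ext i j
      fin_cases i <;> fin_cases j <;> simp
  · intro i h0 hi hs
    rw [hMi, PGLSpec.isScal_iff] at hs
    have h1 : ((w ^ i : Fˣ) : F) = (((w ^ i)⁻¹ : Fˣ) : F) := by simpa using hs.2.2
    have h3 : w ^ i = (w ^ i)⁻¹ := Units.ext h1
    have h4 : w ^ (i * 2) = 1 := by
      rw [pow_mul, pow_two]
      nth_rewrite 2 [h3]
      exact mul_inv_cancel _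
    have h5 := orderOf_dvd_of_pow_eq_one h4
    rw [hord] at h5
    have := Nat.le_of_dvd (by omega) h5
    omega
  · rw [hA0, hA1, hM]
    ext i j
    fin_cases i <;> fin_cases j <;> simp [Matrix.mul_apply, Fin.sum_univ_two]
    · ring
    · ring

/-- In `SL(2,F)`, `2 ≠ 0`: `x² = 1` only for `x = ±1`. -/
theorem sq_eq_one (h2 : (2 : F) ≠ 0) (M : SL2) (h : M * M = 1) :
    (M : Matrix (Fin 2) (Fin 2) F) = 1 ∨ (M : Matrix (Fin 2) (Fin 2) F) = -1 := by
  have hinv : M⁻¹ = M := inv_eq_of_mul_eq_one_right h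
  have h1 := congrArg (fun g : SL2 => (g : Matrix (Fin 2) (Fin 2) F)) hinv
  simp only [Matrix.SpecialLinearGroup.coe_inv] at h1
  rw [Matrix.adjugate_fin_two] at h1
  have e01 := congrFun (congrFun h1 0) 1
  have e10 := congrFun (congrFun h1 1) 0
  have e00 := congrFun (congrFun h1 0) 0
  simp at e01 e10 e00
  have z01 : (M : Matrix (Fin 2) (Fin 2) F) 0 1 = 0 := by
    apply mul_left_cancel₀ h2; linear_combination -e01
  have z10 : (M : Matrix (Fin 2) (Fin 2) F) 1 0 = 0 := by
    apply mul_left_cancel₀ h2; linear_combination -e10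
  have hd := M.2
  rw [Matrix.det_fin_two, z01, e00] at hd
  have h3 : (M : Matrix (Fin 2) (Fin 2) F) 0 0 * (M : Matrix (Fin 2) (Fin 2) F) 0 0 = 1 := by linear_combination hd
  rcases mul_self_eq_one_iff.1 h3 with h4 | h4
  · left
    ext i j
    fin_cases i <;> fin_cases j <;> simp [z01, z10, e00, h4]
  · right
    ext i j
    fin_cases i <;> fin_cases j <;> simp [z01, z10, e00, h4]

theorem nonsplit_pt {c x y : F} {J K : Matrix (Fin 2) (Fin 2) F} (hJ0 : J 0 0 + J 1 1 = 0) (hK0 : K 0 0 + K 1 1 = 0)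
    (hJ : J.det = c) (hK : K.det = 1) (hJK : bil J K = 0) (h : c * x ^ 2 + y ^ 2 = c) :
    (x • J + y • K) 0 0 + (x • J + y • K) 1 1 = 0 ∧ (x • J + y • K).det = c := by
  have hJ1 : J 1 1 = - J 0 0 := by linear_combination hJ0
  have hK1 : K 1 1 = - K 0 0 := by linear_combination hK0
  rw [Matrix.det_fin_two, hJ1] at hJ
  rw [Matrix.det_fin_two, hK1] at hK
  rw [bil_eq, hJ1, hK1] at hJK
  constructor
  · simp only [Matrix.add_apply, Matrix.smul_apply, smul_eq_mul, hJ1, hK1]; ring
  · rw [Matrix.det_fin_two]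
    simp only [Matrix.add_apply, Matrix.smul_apply, smul_eq_mul, hJ1, hK1]
    linear_combination x ^ 2 * hJ + y ^ 2 * hK - x * y * hJK + h

/-- elements of order `p + 1` -/
theorem exists_add (p : ℕ) [hp : Fact p.Prime] [CharP F p] (hF : Fintype.card F = p) (hp5 : 5 ≤ p) {c : F}
    (hc : ¬ IsSquare (-c)) : ∃ x : V c ⋊[act c] G0 c, orderOf x = p + 1 := by
  classical
  have hodd : Odd p := hp.out.odd_of_ne_two (by omega)
  have hchar : ringChar F ≠ 2 := by rw [ringChar.eq F p]; omega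
  have h2 : (2 : F) ≠ 0 := Ring.two_ne_zero hchar
  have hc0 : c ≠ 0 := by
    rintro rfl
    exact hc ⟨0, by simp⟩
  obtain ⟨M, s, K, hM, -, -, -, hMK, hunit, -⟩ := ClassicalGeometry.NonsplitTorus.exists_torus (F := F)
  rw [hF] at hM
  have hMmem : (M : Matrix (Fin 2) (Fin 2) F) ∈ K := (hMK M).1 (Subgroup.mem_zpowers M)
  -- powers of `M` are not scalar
  have hns : ∀ i, 0 < i → i * 2 < p + 1 → ¬ PGLSpec.IsScal ((M : Matrix (Fin 2) (Fin 2) F) ^ i) := by
    intro i h0 hi hs
    obtain ⟨a, ha⟩ := hs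
    rw [← Matrix.SpecialLinearGroup.coe_pow] at ha
    have h3 : (M ^ i) * (M ^ i) = 1 := by
      rcases ClassicalGeometry.NonsplitTorus.eq_one_or_of_smul (M ^ i) a ha with h | h
      · rw [h, mul_one]
      · rw [h]; simp
    have h4 : M ^ (i * 2) = 1 := by rw [pow_mul, pow_two, h3]
    have h5 := orderOf_dvd_of_pow_eq_one h4
    rw [hM] at h5
    have := Nat.le_of_dvd (by omega) h5
    omega
  -- the traceless part of `M`
  set m := (M : Matrix (Fin 2) (Fin 2) F) with hm
  set J0 : Matrix (Fin 2) (Fin 2) F := m - ((m 0 0 + m 1 1) / 2) • (1 : Matrix (Fin 2) (Fin 2) F) with hJ0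
  have hJ0tr : J0 0 0 + J0 1 1 = 0 := by
    rw [hJ0]; simp; field_simp; ring
  have hJ0mem : J0 ∈ K := K.sub_mem hMmem (K.smul_mem K.one_mem _)
  have hJ0sq : J0 * J0 = (-J0.det) • (1 : Matrix (Fin 2) (Fin 2) F) := by
    have h11 : J0 1 1 = - J0 0 0 := by linear_combination hJ0tr
    rw [Matrix.det_fin_two]
    ext i j
    fin_cases i <;> fin_cases j <;> simp [Matrix.mul_apply, Fin.sum_univ_two, h11] <;> ring
  have hJ0ns : ¬ IsSquare (-J0.det) := by
    rintro ⟨r, hr⟩
    have hM1 : ¬ PGLSpec.IsScal m := by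
      have := hns 1 one_pos (by omega)
      rwa [pow_one] at this
    have hprod : (J0 - r • (1 : Matrix (Fin 2) (Fin 2) F)) * (J0 + r • (1 : Matrix (Fin 2) (Fin 2) F)) = 0 := by
      rw [sub_mul, mul_add, mul_add, hJ0sq, hr]
      ext i j
      fin_cases i <;> fin_cases j <;> simp <;> ring
    have hsc : ∀ a : F, J0 = a • (1 : Matrix (Fin 2) (Fin 2) F) → False := by
      intro a ha
      apply hM1
      refine ⟨a + (m 0 0 + m 1 1) / 2, ?_⟩
      rw [add_smul, ← ha, hJ0, sub_add_cancel]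
    have hmem1 : J0 - r • (1 : Matrix (Fin 2) (Fin 2) F) ∈ K := K.sub_mem hJ0mem (K.smul_mem K.one_mem _)
    have hne1 : J0 - r • (1 : Matrix (Fin 2) (Fin 2) F) ≠ 0 := fun h => hsc r (sub_eq_zero.1 h)
    have hu := hunit _ hmem1 hne1
    have h0 : J0 + r • (1 : Matrix (Fin 2) (Fin 2) F) = 0 := by
      rw [← hu.mul_right_eq_zero]; exact hprod
    apply hsc (-r)
    rw [neg_smul]
    exact eq_neg_of_add_eq_zero_left h0
  -- scale to determinant `c`
  have hJ0d : J0.det ≠ 0 := by
    intro h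
    apply hJ0ns
    rw [h]; exact ⟨0, by simp⟩
  obtain ⟨r, hr⟩ := isSquare_mul hc hJ0ns
  have hr0 : r ≠ 0 := by
    rintro rfl
    have : c * J0.det = 0 := by linear_combination hr
    exact (mul_ne_zero hc0 hJ0d) this
  set J : Matrix (Fin 2) (Fin 2) F := (r / J0.det) • J0 with hJ
  have hJtr : J 0 0 + J 1 1 = 0 := by
    rw [hJ]; simp only [Matrix.smul_apply, smul_eq_mul]
    linear_combination (r / J0.det) * hJ0tr
  have hJdet : J.det = c := by
    rw [hJ, Matrix.det_smul]
    simp only [Fintype.card_fin]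
    field_simp
    linear_combination -hr
  have hJ11 : J 1 1 = - J 0 0 := by linear_combination hJtr
  have hJM : m * J = J * m := by
    rw [hJ, hJ0]
    simp only [Matrix.mul_smul, Matrix.smul_mul, mul_sub, sub_mul, mul_one, one_mul]
  have hJc : J 0 0 ^ 2 + J 0 1 * J 1 0 = -c := by
    rw [← hJdet, Matrix.det_fin_two, hJ11]; ring
  have hJ01 : J 0 1 ≠ 0 := by
    intro h
    apply hc
    rw [h] at hJc
    exact ⟨J 0 0, by linear_combination -hJc⟩
  -- an orthogonal matrix of determinant one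
  obtain ⟨a, w, haw⟩ : ∃ a w : F, a ^ 2 + c * w ^ 2 = -1 := by
    have hq : Fintype.card F % 2 = 1 := by rw [hF]; exact Nat.odd_iff.1 hodd
    obtain ⟨a, b, hab⟩ := FiniteField.exists_root_sum_quadratic (R := F)
      (f := (Polynomial.X ^ 2 : Polynomial F)) (g := Polynomial.C c * Polynomial.X ^ 2 + 1)
      (by simp) (by
        have : (Polynomial.C c * Polynomial.X ^ 2 + 1 : Polynomial F).degree = 2 := by
          compute_degree!
        exact this) hq
    simp at hab
    exact ⟨a, b, by linear_combination hab⟩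
  set K1 : Matrix (Fin 2) (Fin 2) F := !![a + J 0 0 * w, J 0 1 * w;
    -(2 * (a + J 0 0 * w) * J 0 0 + J 0 1 * w * J 1 0) / J 0 1, -(a + J 0 0 * w)] with hK1
  have hK1tr : K1 0 0 + K1 1 1 = 0 := by rw [hK1]; simp
  have hK1det : K1.det = 1 := by
    rw [hK1, Matrix.det_fin_two_of]
    field_simp
    linear_combination -haw + w ^ 2 * hJc
  have hJK : bil J K1 = 0 := by
    rw [bil_eq, hK1, hJ11]
    simp
    field_simp
    ring
  -- a rational point
  obtain ⟨t, ht0, htc⟩ : ∃ t : F, t ≠ 0 ∧ t ^ 2 ≠ c := by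
    by_cases h : c = 1
    · refine ⟨2, h2, ?_⟩
      rw [h]
      intro h4
      have h3 : ((3 : ℕ) : F) = 0 := by push_cast; linear_combination h4
      rw [CharP.cast_eq_zero_iff F p] at h3
      have := Nat.le_of_dvd (by norm_num) h3
      omega
    · exact ⟨1, one_ne_zero, fun h' => h (by rw [← h']; ring)⟩
  have htc' : t ^ 2 + c ≠ 0 := by
    intro h
    exact hc ⟨t, by linear_combination -h⟩
  set x := (t ^ 2 - c) / (t ^ 2 + c) with hx
  set y := -2 * c * t / (t ^ 2 + c) with hy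
  have hx0 : x ≠ 0 := div_ne_zero (sub_ne_zero.2 htc) htc'
  have hy0 : y ≠ 0 := div_ne_zero (mul_ne_zero (mul_ne_zero (neg_ne_zero.2 h2) hc0) ht0) htc'
  have hxy : c * x ^ 2 + y ^ 2 = c := by
    rw [hx, hy]
    field_simp
    ring
  set A0 : X c := ⟨x • J + y • K1, nonsplit_pt hJtr hK1tr hJdet hK1det hJK hxy⟩ with hA0
  set A1 : X c := ⟨x • J + (-y) • K1, nonsplit_pt hJtr hK1tr hJdet hK1det hJK (by linear_combination hxy)⟩ with hA1
  have hK11 : K1 1 1 = - K1 0 0 := by linear_combination hK1tr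
  have hbil : bil A0.1 A1.1 = -2 * c * x ^ 2 + 2 * y ^ 2 := by
    have d1 := hJdet
    have d2 := hK1det
    have d3 := hJK
    rw [Matrix.det_fin_two, hJ11] at d1
    rw [Matrix.det_fin_two, hK11] at d2
    rw [bil_eq, hA0, hA1]
    simp only [Matrix.add_apply, Matrix.smul_apply, smul_eq_mul, hJ11, hK11]
    linear_combination (-2 * x ^ 2) * d1 + (2 * y ^ 2) * d2
  have hdisc : ¬ IsSquare ((bil A0.1 A1.1) ^ 2 - 4 * c ^ 2) := by
    have : (bil A0.1 A1.1) ^ 2 - 4 * c ^ 2 = -16 * c * x ^ 2 * y ^ 2 := by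
      rw [hbil]
      linear_combination (4 * (c * x ^ 2 + y ^ 2) + 4 * c) * hxy
    rw [this]
    exact not_square hc h2 hx0 hy0
  obtain ⟨k, hk⟩ := hodd
  have hn : p + 1 = (k + 1) * 2 := by omega
  rw [hn]
  apply Cusp.exists_orderOf hc A0 A1 hdisc M (k + 1) (by omega)
  · have h3 : (M ^ (k + 1)) * (M ^ (k + 1)) = 1 := by
      rw [← pow_two, ← pow_mul, ← hn, ← hM, pow_orderOf_eq_one]
    rcases sq_eq_one h2 _ h3 with h | h
    · have : M ^ (k + 1) = 1 := Subtype.ext h
      rw [this, map_one]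
    · exact smul_of_neg _ h
  · intro i h0 hi
    exact hns i h0 (by omega)
  · have : A0.1 + A1.1 = (2 * x) • J := by
      rw [hA0, hA1]
      ext i j
      simp only [Matrix.add_apply, Matrix.smul_apply, smul_eq_mul]
      ring
    rw [this, Matrix.mul_smul, Matrix.smul_mul, hJM]

/-- **The spectrum of the cuspidal extension** is the spectrum of `PGL(2,p)`. -/
theorem range_orderOf (p : ℕ) [hp : Fact p.Prime] [CharP F p] (hF : Fintype.card F = p) (hp5 : 5 ≤ p) {c : F}
    (hc : ¬ IsSquare (-c)) :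
    Set.range (orderOf : V c ⋊[act c] G0 c → ℕ) = {n | n ∣ p ∨ n ∣ p - 1 ∨ n ∣ p + 1} := by
  ext n
  constructor
  · rintro ⟨x, rfl⟩
    exact order_dvd p hF (by omega) x
  · rintro (h | h | h)
    · exact PGLSpec.mem_range_of_dvd (exists_p p hc) h hp.out.ne_zero
    · exact PGLSpec.mem_range_of_dvd (exists_sub p hF hp5 hc) h (by omega)
    · exact PGLSpec.mem_range_of_dvd (exists_add p hF hp5 hc) h (by omega)

/-- `V c` is not trivial. -/
theorem V_ne {c : F} (p : ℕ) [hp : Fact p.Prime] [CharP F p] (hF : Fintype.card F = p) (hp5 : 5 ≤ p)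
    (hc : ¬ IsSquare (-c)) : ∃ f : V c, f ≠ 1 := by
  by_contra hcon
  push Not at hcon
  have hsub : ∀ x : V c ⋊[act c] G0 c, x = SemidirectProduct.inr x.right := by
    intro x
    apply SemidirectProduct.ext
    · rw [SemidirectProduct.left_inr]; exact hcon _
    · rw [SemidirectProduct.right_inr]
  obtain ⟨x, hx⟩ := exists_add p hF hp5 hc
  -- an element of `G0` of order `p + 1`
  have h1 : orderOf x.right = p + 1 := by
    rw [← hx]
    nth_rewrite 2 [hsub x]
    rw [orderOf_injective (SemidirectProduct.inr : G0 c →* V c ⋊[act c] G0 c) SemidirectProduct.inr_injective]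
  obtain ⟨M, hM⟩ := pj_surj c x.right
  have hodd : Odd p := hp.out.odd_of_ne_two (by omega)
  have hdd : H390.PslSpec.dd (Fintype.card F) = 2 := by rw [hF]; exact H390.PslSpec.dd_odd hodd
  have hright : orderOf x.right ∣ orderOf (H390.PslSpec.pr F M) := by
    apply orderOf_dvd_of_pow_eq_one
    rw [← hM, ← map_pow]
    apply pj_eq_one_of_pr
    rw [map_pow, pow_orderOf_eq_one]
  rw [h1] at hright
  rcases H390.PslSpec.order_dvd (p := p) M with h | h | h
  · have := Nat.le_of_dvd (by omega) (hright.trans h); omega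
  · rw [hdd, hF] at h
    have := Nat.le_of_dvd (by omega) (hright.trans h); omega
  · rw [hdd, hF] at h
    have := Nat.le_of_dvd (by omega) (hright.trans h); omega

universe uu

/-- **The isospectral group.** -/
theorem exists_group {F : Type uu} [Field F] [Fintype F] (p : ℕ) [hp : Fact p.Prime] [CharP F p]
    (hF : Fintype.card F = p) (hp5 : 5 ≤ p) :
    ∃ (H : Type uu) (_ : Group H) (_ : Finite H) (K : Subgroup H), K.Normal ∧ K ≠ ⊥ ∧ Group.IsSolvable K ∧
      Set.range (orderOf : H → ℕ) = {n | n ∣ p ∨ n ∣ p - 1 ∨ n ∣ p + 1} := by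
  have hchar : ringChar F ≠ 2 := by rw [ringChar.eq F p]; omega
  obtain ⟨a, ha⟩ := FiniteField.exists_nonsquare (F := F) hchar
  have hc : ¬ IsSquare (-(-a)) := by rwa [neg_neg]
  have hfin : Finite (V (-a) ⋊[act (-a)] G0 (-a)) := by
    have : Finite (G0 (-a)) := by unfold G0; infer_instance
    exact Finite.of_equiv _ (SemidirectProduct.equivProd (φ := act (-a))).symm
  refine ⟨V (-a) ⋊[act (-a)] G0 (-a), inferInstance, hfin,
    (SemidirectProduct.inl : V (-a) →* V (-a) ⋊[act (-a)] G0 (-a)).range, ?_, ?_, ?_, range_orderOf p hF hp5 hc⟩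
  · rw [SemidirectProduct.range_inl_eq_ker_rightHom]
    infer_instance
  · intro h
    obtain ⟨f, hf⟩ := V_ne p hF hp5 hc
    apply hf
    have h1 : (SemidirectProduct.inl f : V (-a) ⋊[act (-a)] G0 (-a)) ∈
        (SemidirectProduct.inl : V (-a) →* V (-a) ⋊[act (-a)] G0 (-a)).range := ⟨f, rfl⟩
    rw [h, Subgroup.mem_bot] at h1
    exact SemidirectProduct.inl_injective (h1.trans (map_one _).symm)
  · have h1 : Group.IsSolvable (V (-a)) := inferInstance
    exact Group.isSolvable_of_surjective (MonoidHom.rangeRestrict_surjective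
      (SemidirectProduct.inl : V (-a) →* V (-a) ⋊[act (-a)] G0 (-a)))

end Cfsg.Agent.H368.CuspSpec
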