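import Cfsg.Agent.H365.CubeF
import Cfsg.Agent.H368.SNum

/-!
# Simple groups of Lie type in characteristic 2 with a large Sylow 2-subgroup and a given primitive prime divisor

Arithmetic for the recognition of `²F₄(q)`, `q = 2^f`.
-/

set_option autoImplicit false

namespace Cfsg.Agent.H368.SCtx

open Cfsg.Agent.H368.SNum Cfsg.Agent.H365.PPart Cfsg.Agent.H365.CubeA Cfsg.Agent.H365.CubeU
  Cfsg.Agent.H365.CubeC Cfsg.Agent.H365.CubeD Finset

/-- the numerical data of the simple group -/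
structure Ctx (f r S : ℕ) : Prop where
  f3 : 3 ≤ f
  rp : r.Prime
  r2 : ¬ r ∣ 2
  prim : ∀ k, r ∣ 2 ^ k - 1 → 12 * f ∣ k
  rS : r ∣ S
  S0 : S ≠ 0
  lo : 8 * f < S.factorization 2
  hi : S.factorization 2 ≤ 12 * f
  size : ∃ M', S ≤ 2 ^ (12 * f) * M' ∧ M' < 2 ^ (14 * f)

variable {f r S : ℕ}

theorem Ctx.r_dvd (h : Ctx f r S) {d T a : ℕ} (heq : d * S = 2 ^ a * T) : r ∣ T := by
  have h1 : r ∣ 2 ^ a * T := by rw [← heq]; exact Dvd.dvd.mul_left h.rS d
  rcases (Nat.Prime.dvd_mul h.rp).1 h1 with h2 | h2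
  · exact absurd (h.rp.dvd_of_dvd_pow h2) h.r2
  · exact h2

/-- the 2-part, lower bound -/
theorem Ctx.le (h : Ctx f r S) {d T a : ℕ} (hd : ¬ 2 ∣ d) (heq : d * S = 2 ^ a * T) :
    a ≤ S.factorization 2 := by
  rw [← Nat.prime_two.pow_dvd_iff_le_factorization h.S0]
  have h1 : 2 ^ a ∣ d * S := by rw [heq]; exact Dvd.intro _ rfl
  exact (Nat.Coprime.pow_left _ ((Nat.Prime.coprime_iff_not_dvd Nat.prime_two).2 hd)).dvd_of_dvd_mul_left h1

theorem Ctx.eq (h : Ctx f r S) {d T a : ℕ} (hd : ¬ 2 ∣ d) (hT : ¬ 2 ∣ T) (heq : d * S = 2 ^ a * T) :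
    S.factorization 2 = a := by
  have h1 := fac Nat.prime_two heq hT
  have hd0 : d ≠ 0 := by rintro rfl; exact hd (dvd_zero 2)
  rw [Nat.factorization_mul hd0 h.S0] at h1
  simpa [Nat.factorization_eq_zero_of_not_dvd hd] using h1

theorem Ctx.idx (h : Ctx f r S) {k N d T e : ℕ} (hk : 1 ≤ k) (he : 1 ≤ e) (hd : ¬ 2 ∣ d)
    (heq : d * S = 2 ^ (k * N) * T) (hr : r ∣ (2 ^ k) ^ e - 1) :
    ∃ j, 1 ≤ j ∧ k * e = 12 * f * j ∧ j * N ≤ e := by
  rw [← pow_mul] at hr
  obtain ⟨j, hj⟩ := h.prim _ hr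
  have h1 : k * N ≤ 12 * f := (h.le hd heq).trans h.hi
  have hf := h.f3
  refine ⟨j, ?_, hj, ?_⟩
  · rcases Nat.eq_zero_or_pos j with h0 | h0
    · rw [h0, mul_zero] at hj
      have := Nat.mul_pos hk he
      omega
    · exact h0
  · have h2 : 12 * f * (j * N) ≤ 12 * f * e := by
      calc 12 * f * (j * N) = (k * e) * N := by rw [hj]; ring
        _ = (k * N) * e := by ring
        _ ≤ 12 * f * e := Nat.mul_le_mul_right _ h1
    exact Nat.le_of_mul_le_mul_left h2 (by omega)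

theorem Ctx.big (h : Ctx f r S) {k N d T e : ℕ} (hk : 1 ≤ k) (he : 1 ≤ e) (hd : ¬ 2 ∣ d)
    (heq : d * S = 2 ^ (k * N) * T) (hr : r ∣ (2 ^ k) ^ e - 1) (hN : e < N) : False := by
  obtain ⟨j, hj1, -, hj⟩ := h.idx hk he hd heq hr
  have : 1 * N ≤ j * N := Nat.mul_le_mul_right N hj1
  omega

theorem Ctx.final (h : Ctx f r S) {d T c : ℕ} (heq : d * S = 2 ^ (12 * f) * T) (hd : d ≤ 5)
    (hc : 16 * f ≤ c) (hT : 2 ^ c ≤ 4 * T) : False := by
  obtain ⟨M', hM, hM'⟩ := h.size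
  have hf := h.f3
  have h1 : 2 ^ (12 * f) * T ≤ 2 ^ (12 * f) * (5 * 2 ^ (14 * f)) := by
    calc 2 ^ (12 * f) * T = d * S := heq.symm
      _ ≤ 5 * (2 ^ (12 * f) * 2 ^ (14 * f)) :=
        Nat.mul_le_mul hd (hM.trans (Nat.mul_le_mul_left _ hM'.le))
      _ = _ := by ring
  have h2 := Nat.le_of_mul_le_mul_left h1 (by positivity)
  have h3 : 2 ^ (14 * f + 5) ≤ 4 * T := by
    have h4 : 2 ^ (14 * f + 6) ≤ 2 ^ c := Nat.pow_le_pow_right (by norm_num) (by omega)
    rw [pow_succ] at h4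
    omega
  rw [pow_add] at h3
  have h5 : 0 < 2 ^ (14 * f) := by positivity
  omega

/-! ### oddness and lower bounds -/

theorem odd_pow_sub {k a : ℕ} (hk : 1 ≤ k) (ha : 1 ≤ a) : ¬ 2 ∣ (2 ^ k) ^ a - 1 := by
  rw [← pow_mul]
  have h1 : 1 ≤ k * a := Nat.mul_pos hk ha
  obtain ⟨b, hb⟩ : ∃ b, k * a = b + 1 := ⟨k * a - 1, by omega⟩
  rw [hb, pow_succ]
  have : 0 < 2 ^ b := by positivity
  omega

theorem odd_pow_add {k a : ℕ} (hk : 1 ≤ k) (ha : 1 ≤ a) : ¬ 2 ∣ (2 ^ k) ^ a + 1 := by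
  rw [← pow_mul]
  have h1 : 1 ≤ k * a := Nat.mul_pos hk ha
  obtain ⟨b, hb⟩ : ∃ b, k * a = b + 1 := ⟨k * a - 1, by omega⟩
  rw [hb, pow_succ]
  omega

theorem le_two_mul_sub {k a : ℕ} (hk : 1 ≤ k) (ha : 1 ≤ a) : 2 ^ (k * a) ≤ 2 * ((2 ^ k) ^ a - 1) := by
  rw [← pow_mul]
  have h1 : 1 ≤ k * a := Nat.mul_pos hk ha
  obtain ⟨b, hb⟩ : ∃ b, k * a = b + 1 := ⟨k * a - 1, by omega⟩
  rw [hb, pow_succ]
  have : 0 < 2 ^ b := by positivity
  omega

theorem le_add {k a : ℕ} : 2 ^ (k * a) ≤ (2 ^ k) ^ a + 1 := by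
  rw [← pow_mul]; omega

theorem dvd_of_add {x e : ℕ} (h : r ∣ x ^ e + 1) : r ∣ x ^ (2 * e) - 1 := by
  rw [mul_comm 2 e, pow_mul, SNum.sub_mul]
  exact dvd_mul_of_dvd_right h _

theorem not_dvd_mul {a b : ℕ} (h1 : ¬ 2 ∣ a) (h2 : ¬ 2 ∣ b) : ¬ 2 ∣ a * b := by
  rw [Nat.Prime.dvd_mul Nat.prime_two]
  rintro (h | h)
  · exact h1 h
  · exact h2 h

theorem odd_gcd {n k : ℕ} (hk : 1 ≤ k) : ¬ 2 ∣ Nat.gcd n (2 ^ k - 1) := by
  intro h
  have h1 := h.trans (Nat.gcd_dvd_right _ _)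
  have h2 := odd_pow_sub (a := 1) hk le_rfl
  rw [pow_one] at h2
  exact h2 h1

theorem odd_gcd' {n k : ℕ} (hk : 1 ≤ k) : ¬ 2 ∣ Nat.gcd n (2 ^ k + 1) := by
  intro h
  have h1 := h.trans (Nat.gcd_dvd_right _ _)
  have h2 := odd_pow_add (a := 1) hk le_rfl
  rw [pow_one] at h2
  exact h2 h1

/-! ### linear groups -/

theorem sum_range_succ_id (n : ℕ) : ∑ i ∈ range n, (i + 1) = n * (n + 1) / 2 := by
  induction n with
  | zero => simp
  | succ n ih =>
    rw [sum_range_succ, ih]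
    have h1 : (n + 1) * (n + 1 + 1) = n * (n + 1) + 2 * (n + 1) := by ring
    rw [h1, Nat.add_mul_div_left _ _ (by norm_num)]

theorem sA_eq (k n : ℕ) : sA (2 ^ k) n = 2 ^ (k * (n * (n + 1) / 2)) * ∏ i ∈ range n, ((2 ^ k) ^ (i + 2) - 1) := by
  unfold sA
  rw [prod_mul_distrib, prod_pow_eq_pow_sum, sum_range_succ_id, ← pow_mul]

theorem tri_gt {n : ℕ} (hn : 4 ≤ n) : n < (n - 1) * (n - 1 + 1) / 2 := by
  obtain ⟨m, rfl⟩ : ∃ m, n = m + 4 := ⟨n - 4, by omega⟩
  rw [show m + 4 - 1 = m + 3 by omega, Nat.lt_iff_add_one_le, Nat.le_div_iff_mul_le (by norm_num)]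
  nlinarith

theorem tri_gt' {n : ℕ} (hn : 6 ≤ n) : 2 * n < (n - 1) * (n - 1 + 1) / 2 := by
  obtain ⟨m, rfl⟩ : ∃ m, n = m + 6 := ⟨n - 6, by omega⟩
  rw [show m + 6 - 1 = m + 5 by omega, Nat.lt_iff_add_one_le, Nat.le_div_iff_mul_le (by norm_num)]
  nlinarith

theorem Ctx.psl (h : Ctx f r S) {k n : ℕ} (hk : 1 ≤ k) (hn : 2 ≤ n)
    (heq : Nat.gcd n (2 ^ k - 1) * S = sA (2 ^ k) (n - 1)) : False := by
  have hd := odd_gcd (n := n) hk
  rw [sA_eq] at heq
  have hrT := h.r_dvd heq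
  obtain ⟨i, hi, hri⟩ := (h.rp.prime.dvd_finsetProd_iff _).1 hrT
  rw [mem_range] at hi
  obtain ⟨j, hj1, hj2, hj3⟩ := h.idx hk (e := i + 2) (by omega) hd heq hri
  have hlo := h.lo
  rcases Nat.lt_or_ge n 4 with h4 | h4
  · rcases (by omega : n = 2 ∨ n = 3) with rfl | rfl
    · -- `n = 2`
      norm_num at hi hj3 heq
      subst hi
      norm_num at hj2 hj3 heq
      have h5 := h.eq (a := k) hd (odd_pow_sub hk (by norm_num)) heq
      have h6 : j = 2 := by
        rcases (by omega : j = 1 ∨ j = 2) with rfl | rfl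
        · omega
        · rfl
      subst h6
      have h7 : k = 12 * f := by omega
      refine h.final (d := Nat.gcd 2 (2 ^ k - 1)) (c := k * 2) (T := (2 ^ k) ^ 2 - 1)
        (by rw [← h7]; exact heq) ?_ (by omega) ?_
      · exact (Nat.le_of_dvd (by norm_num) (Nat.gcd_dvd_left 2 _)).trans (by norm_num)
      · have := le_two_mul_sub (a := 2) hk (by norm_num)
        omega
    · -- `n = 3`
      norm_num at hi hj3 heq
      rw [prod_range_succ, prod_range_one] at heq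
      have h5 := h.eq (a := k * 3) hd (not_dvd_mul (odd_pow_sub hk (by norm_num))
        (odd_pow_sub hk (by norm_num))) heq
      have h6 : k * 3 = 12 * f := by
        rcases (by omega : i = 0 ∨ i = 1) with rfl | rfl
        · omega
        · have : j = 1 := by omega
          subst this
          omega
      refine h.final (c := k * 2 + k * 3) (T := ((2 ^ k) ^ 2 - 1) * ((2 ^ k) ^ 3 - 1))
        (by rw [← h6]; exact heq) ?_ (by omega) ?_
      · exact (Nat.le_of_dvd (by norm_num) (Nat.gcd_dvd_left 3 _)).trans (by norm_num)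
      · rw [pow_add]
        calc 2 ^ (k * 2) * 2 ^ (k * 3) ≤ (2 * ((2 ^ k) ^ 2 - 1)) * (2 * ((2 ^ k) ^ 3 - 1)) :=
              Nat.mul_le_mul (le_two_mul_sub hk (by norm_num)) (le_two_mul_sub hk (by norm_num))
          _ = _ := by ring
  · exact h.big hk (e := i + 2) (by omega) hd heq hri (lt_of_le_of_lt (by omega) (tri_gt h4))

/-! ### symplectic groups -/

theorem sum_odd (n : ℕ) : ∑ i ∈ range n, (2 * i + 1) = n * n := by
  induction n with
  | zero => simp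
  | succ n ih =>
    rw [sum_range_succ, ih]; ring

theorem tC_eq (k n : ℕ) : tC (2 ^ k) n = 2 ^ (k * (n * n)) * ∏ i ∈ range n, ((2 ^ k) ^ (2 * (i + 1)) - 1) := by
  unfold tC
  rw [prod_mul_distrib, prod_pow_eq_pow_sum, sum_odd, ← pow_mul]

theorem Ctx.psp (h : Ctx f r S) {k n : ℕ} (hk : 1 ≤ k) (hn : 2 ≤ n)
    (heq : Nat.gcd 2 (2 ^ k - 1) * S = tC (2 ^ k) n) : False := by
  have hd := odd_gcd (n := 2) hk
  rw [tC_eq] at heq
  have hrT := h.r_dvd heq
  obtain ⟨i, hi, hri⟩ := (h.rp.prime.dvd_finsetProd_iff _).1 hrT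
  rw [mem_range] at hi
  obtain ⟨j, hj1, hj2, hj3⟩ := h.idx hk (e := 2 * (i + 1)) (by omega) hd heq hri
  have hlo := h.lo
  rcases Nat.lt_or_ge n 3 with h4 | h4
  · obtain rfl : n = 2 := by omega
    norm_num at heq
    rw [prod_range_succ, prod_range_one] at heq
    norm_num at heq
    have h5 := h.eq (a := k * 4) hd (not_dvd_mul (odd_pow_sub hk (by norm_num))
      (odd_pow_sub hk (by norm_num))) heq
    have h6 : k * 4 = 12 * f := by
      rcases (by omega : i = 0 ∨ i = 1) with rfl | rfl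
      · omega
      · have : j = 1 := by omega
        subst this
        omega
    refine h.final (d := Nat.gcd 2 (2 ^ k - 1)) (c := k * 2 + k * 4) (T := ((2 ^ k) ^ 2 - 1) * ((2 ^ k) ^ 4 - 1))
      (by rw [← h6]; exact heq) ?_ (by omega) ?_
    · exact (Nat.le_of_dvd (by norm_num) (Nat.gcd_dvd_left 2 _)).trans (by norm_num)
    · rw [pow_add]
      calc 2 ^ (k * 2) * 2 ^ (k * 4) ≤ (2 * ((2 ^ k) ^ 2 - 1)) * (2 * ((2 ^ k) ^ 4 - 1)) :=
            Nat.mul_le_mul (le_two_mul_sub hk (by norm_num)) (le_two_mul_sub hk (by norm_num))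
        _ = _ := by ring
  · refine h.big hk (e := 2 * (i + 1)) (by omega) hd heq hri ?_
    nlinarith

/-! ### unitary groups -/

theorem sU_eq (k n : ℕ) : sU (2 ^ k) n = 2 ^ (k * (n * (n + 1) / 2)) * ∏ i ∈ range n, emn (2 ^ k) (i + 2) := by
  unfold sU
  rw [prod_mul_distrib, prod_pow_eq_pow_sum, sum_range_succ_id, ← pow_mul]

theorem em5 (q : ℕ) : emn q 5 = q ^ 5 + 1 := em_odd (by decide)

theorem Ctx.psu (h : Ctx f r S) {k n : ℕ} (hk : 1 ≤ k) (hn : 3 ≤ n)
    (heq : Nat.gcd n (2 ^ k + 1) * S = sU (2 ^ k) (n - 1)) : False := by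
  have hd := odd_gcd' (n := n) hk
  rw [sU_eq] at heq
  have hrT := h.r_dvd heq
  obtain ⟨i, hi, hri⟩ := (h.rp.prime.dvd_finsetProd_iff _).1 hrT
  rw [mem_range] at hi
  have hlo := h.lo
  rcases Nat.lt_or_ge n 6 with h4 | h4
  · rcases (by omega : n = 3 ∨ n = 4 ∨ n = 5) with rfl | rfl | rfl
    · -- `n = 3`
      norm_num at heq hi
      rw [prod_range_succ, prod_range_one] at heq
      norm_num at heq
      rw [em2, em3] at heq
      have h5 := h.eq (a := k * 3) hd (not_dvd_mul (odd_pow_sub hk (by norm_num))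
        (odd_pow_add hk (by norm_num))) heq
      have h6 : k * 3 = 12 * f := by
        rcases (by omega : i = 0 ∨ i = 1) with rfl | rfl
        · obtain ⟨j, hj1, hj2, hj3⟩ := h.idx hk (e := 2) (by omega) hd heq (by rw [← em2]; exact hri)
          omega
        · obtain ⟨j, hj1, hj2, hj3⟩ := h.idx hk (e := 6) (by omega) hd heq
            (dvd_of_add (e := 3) (by rw [← em3]; exact hri))
          rcases (by omega : j = 1 ∨ j = 2) with rfl | rfl
          · omega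
          · omega
      refine h.final (d := Nat.gcd 3 (2 ^ k + 1)) (c := k * 2 + k * 3) (T := ((2 ^ k) ^ 2 - 1) * ((2 ^ k) ^ 3 + 1))
        (by rw [← h6]; exact heq) ?_ (by omega) ?_
      · exact (Nat.le_of_dvd (by norm_num) (Nat.gcd_dvd_left 3 _)).trans (by norm_num)
      · rw [pow_add]
        calc 2 ^ (k * 2) * 2 ^ (k * 3) ≤ (2 * ((2 ^ k) ^ 2 - 1)) * ((2 ^ k) ^ 3 + 1) :=
              Nat.mul_le_mul (le_two_mul_sub hk (by norm_num)) le_add
          _ ≤ 2 * ((2 * ((2 ^ k) ^ 2 - 1)) * ((2 ^ k) ^ 3 + 1)) := Nat.le_mul_of_pos_left _ (by norm_num)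
          _ = _ := by ring
    · -- `n = 4`
      norm_num at heq hi
      rw [prod_range_succ, prod_range_succ, prod_range_one] at heq
      norm_num at heq
      rw [em2, em3, em4] at heq
      have h5 := h.eq (a := k * 6) hd (not_dvd_mul (not_dvd_mul (odd_pow_sub hk (by norm_num))
        (odd_pow_add hk (by norm_num))) (odd_pow_sub hk (by norm_num))) heq
      have h6 : k * 6 = 12 * f := by
        rcases (by omega : i = 0 ∨ i = 1 ∨ i = 2) with rfl | rfl | rfl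
        · obtain ⟨j, hj1, hj2, hj3⟩ := h.idx hk (e := 2) (by omega) hd heq (by rw [← em2]; exact hri)
          omega
        · obtain ⟨j, hj1, hj2, hj3⟩ := h.idx hk (e := 6) (by omega) hd heq
            (dvd_of_add (e := 3) (by rw [← em3]; exact hri))
          obtain rfl : j = 1 := by omega
          omega
        · obtain ⟨j, hj1, hj2, hj3⟩ := h.idx hk (e := 4) (by omega) hd heq (by rw [← em4]; exact hri)
          omega
      refine h.final (d := Nat.gcd 4 (2 ^ k + 1)) (c := k * 2 + k * 3 + k * 4)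
        (T := ((2 ^ k) ^ 2 - 1) * ((2 ^ k) ^ 3 + 1) * ((2 ^ k) ^ 4 - 1))
        (by rw [← h6]; exact heq) ?_ (by omega) ?_
      · exact (Nat.le_of_dvd (by norm_num) (Nat.gcd_dvd_left 4 _)).trans (by norm_num)
      · rw [pow_add, pow_add]
        calc 2 ^ (k * 2) * 2 ^ (k * 3) * 2 ^ (k * 4) ≤
              (2 * ((2 ^ k) ^ 2 - 1)) * ((2 ^ k) ^ 3 + 1) * (2 * ((2 ^ k) ^ 4 - 1)) :=
              Nat.mul_le_mul (Nat.mul_le_mul (le_two_mul_sub hk (by norm_num)) le_add)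
                (le_two_mul_sub hk (by norm_num))
          _ = _ := by ring
    · -- `n = 5`
      norm_num at heq hi
      rw [prod_range_succ, prod_range_succ, prod_range_succ, prod_range_one] at heq
      norm_num at heq
      rw [em2, em3, em4, em5] at heq
      have h5 := h.eq (a := k * 10) hd (not_dvd_mul (not_dvd_mul (not_dvd_mul (odd_pow_sub hk (by norm_num))
        (odd_pow_add hk (by norm_num))) (odd_pow_sub hk (by norm_num))) (odd_pow_add hk (by norm_num))) heq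
      have h6 : k * 10 = 12 * f := by
        rcases (by omega : i = 0 ∨ i = 1 ∨ i = 2 ∨ i = 3) with rfl | rfl | rfl | rfl
        · obtain ⟨j, hj1, hj2, hj3⟩ := h.idx hk (e := 2) (by omega) hd heq (by rw [← em2]; exact hri)
          omega
        · obtain ⟨j, hj1, hj2, hj3⟩ := h.idx hk (e := 6) (by omega) hd heq
            (dvd_of_add (e := 3) (by rw [← em3]; exact hri))
          omega
        · obtain ⟨j, hj1, hj2, hj3⟩ := h.idx hk (e := 4) (by omega) hd heq (by rw [← em4]; exact hri)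
          omega
        · obtain ⟨j, hj1, hj2, hj3⟩ := h.idx hk (e := 10) (by omega) hd heq
            (dvd_of_add (e := 5) (by rw [← em5]; exact hri))
          obtain rfl : j = 1 := by omega
          omega
      refine h.final (d := Nat.gcd 5 (2 ^ k + 1)) (c := k * 2 + k * 3 + k * 4 + k * 5)
        (T := ((2 ^ k) ^ 2 - 1) * ((2 ^ k) ^ 3 + 1) * ((2 ^ k) ^ 4 - 1) * ((2 ^ k) ^ 5 + 1))
        (by rw [← h6]; exact heq) ?_ (by omega) ?_
      · exact (Nat.le_of_dvd (by norm_num) (Nat.gcd_dvd_left 5 _)).trans (by norm_num)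
      · rw [pow_add, pow_add, pow_add]
        calc 2 ^ (k * 2) * 2 ^ (k * 3) * 2 ^ (k * 4) * 2 ^ (k * 5) ≤
              (2 * ((2 ^ k) ^ 2 - 1)) * ((2 ^ k) ^ 3 + 1) * (2 * ((2 ^ k) ^ 4 - 1)) * ((2 ^ k) ^ 5 + 1) :=
              Nat.mul_le_mul (Nat.mul_le_mul (Nat.mul_le_mul (le_two_mul_sub hk (by norm_num)) le_add)
                (le_two_mul_sub hk (by norm_num))) le_add
          _ = _ := by ring
  · have h7 : r ∣ (2 ^ k) ^ (2 * (i + 2)) - 1 := by
      unfold emn at hri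
      split_ifs at hri with hev
      · refine hri.trans ?_
        rw [mul_comm 2, pow_mul]
        exact Nat.sub_one_dvd_pow_sub_one _ 2
      · exact dvd_of_add hri
    exact h.big hk (e := 2 * (i + 2)) (by omega) hd heq h7 (lt_of_le_of_lt (by omega) (tri_gt' h4))

/-! ### orthogonal groups -/

theorem Ctx.orth (h : Ctx f r S) {k n c D : ℕ} (hk : 1 ≤ k) (hn : 4 ≤ n) (hc : ¬ 2 ∣ c)
    (hD : IsD (2 ^ k) n D) (heq : c * S = sD (2 ^ k) n D) : False := by
  unfold sD at heq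
  rw [tC_eq, ← pow_mul] at heq
  have heq' : c * S = 2 ^ (k * (n * (n - 1))) * (D * ∏ i ∈ range (n - 1), ((2 ^ k) ^ (2 * (i + 1)) - 1)) := by
    rw [heq]
    have h1 : k * (n * (n - 1)) = k * (n - 1) + k * ((n - 1) * (n - 1)) := by
      obtain ⟨m, rfl⟩ : ∃ m, n = m + 1 := ⟨n - 1, by omega⟩
      rw [Nat.add_sub_cancel]
      ring
    rw [h1, pow_add]
    ring
  have hrT := h.r_dvd heq'
  have hlt : 2 * n < n * (n - 1) := by
    obtain ⟨m, rfl⟩ : ∃ m, n = m + 4 := ⟨n - 4, by omega⟩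
    rw [show m + 4 - 1 = m + 3 by omega]
    nlinarith
  rcases (Nat.Prime.dvd_mul h.rp).1 hrT with h1 | h1
  · have h2 : r ∣ (2 ^ k) ^ (2 * n) - 1 := h1.trans (hD.dvd (Nat.one_lt_two_pow (by omega)))
    exact h.big hk (e := 2 * n) (by omega) hc heq' h2 hlt
  · obtain ⟨i, hi, hri⟩ := (h.rp.prime.dvd_finsetProd_iff _).1 h1
    rw [mem_range] at hi
    exact h.big hk (e := 2 * (i + 1)) (by omega) hc heq' hri (lt_of_le_of_lt (by omega) hlt)

end Cfsg.Agent.H368.SCtx
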