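import Cfsg.Agent.H368.SCtx

/-!
# Exceptional groups of Lie type in characteristic 2 with a large Sylow 2-subgroup and a given primitive prime divisor
-/

set_option autoImplicit false

namespace Cfsg.Agent.H368.SCtx

open Cfsg.Agent.H368.SNum

variable {f r S : ℕ}

theorem one_odd : ¬ 2 ∣ 1 := by norm_num

theorem Ctx.g2 (h : Ctx f r S) {k : ℕ} (hk : 1 ≤ k)
    (heq : S = (2 ^ k) ^ 6 * ((2 ^ k) ^ 2 - 1) * ((2 ^ k) ^ 6 - 1)) : False := by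
  have heq' : 1 * S = 2 ^ (k * 6) * (((2 ^ k) ^ 2 - 1) * ((2 ^ k) ^ 6 - 1)) := by
    rw [heq, pow_mul]; ring
  have h5 := h.eq one_odd (not_dvd_mul (odd_pow_sub hk (by norm_num)) (odd_pow_sub hk (by norm_num))) heq'
  have hlo := h.lo
  have h6 : k * 6 = 12 * f := by
    rcases (Nat.Prime.dvd_mul h.rp).1 (h.r_dvd heq') with h1 | h1
    · obtain ⟨j, hj1, hj2, hj3⟩ := h.idx hk (by norm_num) one_odd heq' h1
      omega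
    · obtain ⟨j, hj1, hj2, hj3⟩ := h.idx hk (by norm_num) one_odd heq' h1
      obtain rfl : j = 1 := by omega
      omega
  refine h.final (d := 1) (c := k * 2 + k * 6) (T := ((2 ^ k) ^ 2 - 1) * ((2 ^ k) ^ 6 - 1))
    (by rw [← h6]; exact heq') (by norm_num) (by omega) ?_
  rw [pow_add]
  calc 2 ^ (k * 2) * 2 ^ (k * 6) ≤ (2 * ((2 ^ k) ^ 2 - 1)) * (2 * ((2 ^ k) ^ 6 - 1)) :=
        Nat.mul_le_mul (le_two_mul_sub hk (by norm_num)) (le_two_mul_sub hk (by norm_num))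
    _ = _ := by ring

theorem Ctx.td4 (h : Ctx f r S) {k : ℕ} (hk : 1 ≤ k)
    (heq : S = (2 ^ k) ^ 12 * ((2 ^ k) ^ 2 - 1) * ((2 ^ k) ^ 6 - 1) * ((2 ^ k) ^ 8 + (2 ^ k) ^ 4 + 1)) : False := by
  have heq' : 1 * S = 2 ^ (k * 12) * (((2 ^ k) ^ 2 - 1) * ((2 ^ k) ^ 6 - 1) * ((2 ^ k) ^ 8 + (2 ^ k) ^ 4 + 1)) := by
    rw [heq, pow_mul]; ring
  have hodd : ¬ 2 ∣ (2 ^ k) ^ 8 + (2 ^ k) ^ 4 + 1 := by
    have h1 := odd_pow_add (a := 8) hk (by norm_num)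
    have h2 := odd_pow_add (a := 4) hk (by norm_num)
    omega
  have h5 := h.eq one_odd (not_dvd_mul (not_dvd_mul (odd_pow_sub hk (by norm_num))
    (odd_pow_sub hk (by norm_num))) hodd) heq'
  have hlo := h.lo
  have h6 : k * 12 = 12 * f := by
    rcases (Nat.Prime.dvd_mul h.rp).1 (h.r_dvd heq') with h1 | h1
    · rcases (Nat.Prime.dvd_mul h.rp).1 h1 with h1 | h1
      · obtain ⟨j, hj1, hj2, hj3⟩ := h.idx hk (by norm_num) one_odd heq' h1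
        omega
      · obtain ⟨j, hj1, hj2, hj3⟩ := h.idx hk (by norm_num) one_odd heq' h1
        omega
    · have h2 : r ∣ (2 ^ k) ^ 12 - 1 := by
        have h3 : (2 ^ k) ^ 12 - 1 = ((2 ^ k) ^ 4 - 1) * ((2 ^ k) ^ 8 + (2 ^ k) ^ 4 + 1) := by
          obtain ⟨y, hy⟩ : ∃ y, (2 ^ k) ^ 4 = y + 1 := ⟨(2 ^ k) ^ 4 - 1, by
            have : 0 < (2 ^ k) ^ 4 := by positivity
            omega⟩
          have h4 : (2 ^ k) ^ 12 = ((2 ^ k) ^ 4) ^ 3 := by ring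
          have h5 : (2 ^ k) ^ 8 = ((2 ^ k) ^ 4) ^ 2 := by ring
          rw [h4, h5, hy, Nat.add_sub_cancel]
          have : (y + 1) ^ 3 = y * ((y + 1) ^ 2 + (y + 1) + 1) + 1 := by ring
          rw [this, Nat.add_sub_cancel]
        rw [h3]
        exact dvd_mul_of_dvd_right h1 _
      obtain ⟨j, hj1, hj2, hj3⟩ := h.idx hk (by norm_num) one_odd heq' h2
      obtain rfl : j = 1 := by omega
      omega
  refine h.final (d := 1) (c := k * 2 + k * 6 + k * 8)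
    (T := ((2 ^ k) ^ 2 - 1) * ((2 ^ k) ^ 6 - 1) * ((2 ^ k) ^ 8 + (2 ^ k) ^ 4 + 1))
    (by rw [← h6]; exact heq') (by norm_num) (by omega) ?_
  rw [pow_add, pow_add]
  calc 2 ^ (k * 2) * 2 ^ (k * 6) * 2 ^ (k * 8) ≤
        (2 * ((2 ^ k) ^ 2 - 1)) * (2 * ((2 ^ k) ^ 6 - 1)) * ((2 ^ k) ^ 8 + (2 ^ k) ^ 4 + 1) :=
        Nat.mul_le_mul (Nat.mul_le_mul (le_two_mul_sub hk (by norm_num)) (le_two_mul_sub hk (by norm_num)))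
          (by rw [pow_mul]; omega)
    _ = _ := by ring

theorem Ctx.sz (h : Ctx f r S) {k : ℕ} (hk : 1 ≤ k)
    (heq : S = (2 ^ k) ^ 2 * (2 ^ k - 1) * ((2 ^ k) ^ 2 + 1)) : False := by
  have heq' : 1 * S = 2 ^ (k * 2) * (((2 ^ k) ^ 1 - 1) * ((2 ^ k) ^ 2 + 1)) := by
    rw [heq, pow_mul, pow_one]; ring
  have h5 := h.eq one_odd (not_dvd_mul (odd_pow_sub hk (by norm_num)) (odd_pow_add hk (by norm_num))) heq'
  have hlo := h.lo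
  have h6 : k * 2 = 12 * f := by
    rcases (Nat.Prime.dvd_mul h.rp).1 (h.r_dvd heq') with h1 | h1
    · obtain ⟨j, hj1, hj2, hj3⟩ := h.idx hk (by norm_num) one_odd heq' h1
      omega
    · obtain ⟨j, hj1, hj2, hj3⟩ := h.idx hk (e := 4) (by norm_num) one_odd heq' (dvd_of_add (e := 2) h1)
      rcases (by omega : j = 1 ∨ j = 2) with rfl | rfl <;> omega
  refine h.final (d := 1) (c := k * 1 + k * 2) (T := ((2 ^ k) ^ 1 - 1) * ((2 ^ k) ^ 2 + 1))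
    (by rw [← h6]; exact heq') (by norm_num) (by omega) ?_
  rw [pow_add]
  calc 2 ^ (k * 1) * 2 ^ (k * 2) ≤ (2 * ((2 ^ k) ^ 1 - 1)) * ((2 ^ k) ^ 2 + 1) :=
        Nat.mul_le_mul (le_two_mul_sub hk (by norm_num)) le_add
    _ ≤ 2 * ((2 * ((2 ^ k) ^ 1 - 1)) * ((2 ^ k) ^ 2 + 1)) := Nat.le_mul_of_pos_left _ (by norm_num)
    _ = _ := by ring

theorem Ctx.f4 (h : Ctx f r S) {k : ℕ} (hk : 1 ≤ k)
    (heq : S = (2 ^ k) ^ 24 * ((2 ^ k) ^ 2 - 1) * ((2 ^ k) ^ 6 - 1) * ((2 ^ k) ^ 8 - 1) *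
      ((2 ^ k) ^ 12 - 1)) : False := by
  have heq' : 1 * S = 2 ^ (k * 24) * (((2 ^ k) ^ 2 - 1) * ((2 ^ k) ^ 6 - 1) * ((2 ^ k) ^ 8 - 1) *
      ((2 ^ k) ^ 12 - 1)) := by
    rw [heq, pow_mul]; ring
  have h1 := h.r_dvd heq'
  rw [Nat.Prime.dvd_mul h.rp, Nat.Prime.dvd_mul h.rp, Nat.Prime.dvd_mul h.rp] at h1
  rcases h1 with ((h1 | h1) | h1) | h1
  all_goals exact h.big hk (by norm_num) one_odd heq' h1 (by norm_num)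

theorem Ctx.e6 (h : Ctx f r S) {k : ℕ} (hk : 1 ≤ k)
    (heq : Nat.gcd 3 (2 ^ k - 1) * S = (2 ^ k) ^ 36 * ((2 ^ k) ^ 2 - 1) * ((2 ^ k) ^ 5 - 1) *
      ((2 ^ k) ^ 6 - 1) * ((2 ^ k) ^ 8 - 1) * ((2 ^ k) ^ 9 - 1) * ((2 ^ k) ^ 12 - 1)) : False := by
  have heq' : Nat.gcd 3 (2 ^ k - 1) * S = 2 ^ (k * 36) * (((2 ^ k) ^ 2 - 1) * ((2 ^ k) ^ 5 - 1) *
      ((2 ^ k) ^ 6 - 1) * ((2 ^ k) ^ 8 - 1) * ((2 ^ k) ^ 9 - 1) * ((2 ^ k) ^ 12 - 1)) := by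
    rw [heq, pow_mul]; ring
  have h1 := h.r_dvd heq'
  rw [Nat.Prime.dvd_mul h.rp, Nat.Prime.dvd_mul h.rp, Nat.Prime.dvd_mul h.rp, Nat.Prime.dvd_mul h.rp,
    Nat.Prime.dvd_mul h.rp] at h1
  rcases h1 with ((((h1 | h1) | h1) | h1) | h1) | h1
  all_goals exact h.big hk (by norm_num) (odd_gcd hk) heq' h1 (by norm_num)

theorem Ctx.e7 (h : Ctx f r S) {k : ℕ} (hk : 1 ≤ k)
    (heq : Nat.gcd 2 (2 ^ k - 1) * S = (2 ^ k) ^ 63 * ((2 ^ k) ^ 2 - 1) * ((2 ^ k) ^ 6 - 1) *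
      ((2 ^ k) ^ 8 - 1) * ((2 ^ k) ^ 10 - 1) * ((2 ^ k) ^ 12 - 1) * ((2 ^ k) ^ 14 - 1) *
      ((2 ^ k) ^ 18 - 1)) : False := by
  have heq' : Nat.gcd 2 (2 ^ k - 1) * S = 2 ^ (k * 63) * (((2 ^ k) ^ 2 - 1) * ((2 ^ k) ^ 6 - 1) *
      ((2 ^ k) ^ 8 - 1) * ((2 ^ k) ^ 10 - 1) * ((2 ^ k) ^ 12 - 1) * ((2 ^ k) ^ 14 - 1) *
      ((2 ^ k) ^ 18 - 1)) := by
    rw [heq, pow_mul]; ring
  have h1 := h.r_dvd heq'
  rw [Nat.Prime.dvd_mul h.rp, Nat.Prime.dvd_mul h.rp, Nat.Prime.dvd_mul h.rp, Nat.Prime.dvd_mul h.rp,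
    Nat.Prime.dvd_mul h.rp, Nat.Prime.dvd_mul h.rp] at h1
  rcases h1 with (((((h1 | h1) | h1) | h1) | h1) | h1) | h1
  all_goals exact h.big hk (by norm_num) (odd_gcd hk) heq' h1 (by norm_num)

theorem Ctx.e8 (h : Ctx f r S) {k : ℕ} (hk : 1 ≤ k)
    (heq : S = (2 ^ k) ^ 120 * ((2 ^ k) ^ 2 - 1) * ((2 ^ k) ^ 8 - 1) * ((2 ^ k) ^ 12 - 1) *
      ((2 ^ k) ^ 14 - 1) * ((2 ^ k) ^ 18 - 1) * ((2 ^ k) ^ 20 - 1) * ((2 ^ k) ^ 24 - 1) *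
      ((2 ^ k) ^ 30 - 1)) : False := by
  have heq' : 1 * S = 2 ^ (k * 120) * (((2 ^ k) ^ 2 - 1) * ((2 ^ k) ^ 8 - 1) * ((2 ^ k) ^ 12 - 1) *
      ((2 ^ k) ^ 14 - 1) * ((2 ^ k) ^ 18 - 1) * ((2 ^ k) ^ 20 - 1) * ((2 ^ k) ^ 24 - 1) *
      ((2 ^ k) ^ 30 - 1)) := by
    rw [heq, pow_mul]; ring
  have h1 := h.r_dvd heq'
  rw [Nat.Prime.dvd_mul h.rp, Nat.Prime.dvd_mul h.rp, Nat.Prime.dvd_mul h.rp, Nat.Prime.dvd_mul h.rp,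
    Nat.Prime.dvd_mul h.rp, Nat.Prime.dvd_mul h.rp, Nat.Prime.dvd_mul h.rp] at h1
  rcases h1 with ((((((h1 | h1) | h1) | h1) | h1) | h1) | h1) | h1
  all_goals exact h.big hk (by norm_num) one_odd heq' h1 (by norm_num)

theorem Ctx.te6 (h : Ctx f r S) {k : ℕ} (hk : 1 ≤ k)
    (heq : Nat.gcd 3 (2 ^ k + 1) * S = (2 ^ k) ^ 36 * ((2 ^ k) ^ 2 - 1) * ((2 ^ k) ^ 5 + 1) *
      ((2 ^ k) ^ 6 - 1) * ((2 ^ k) ^ 8 - 1) * ((2 ^ k) ^ 9 + 1) * ((2 ^ k) ^ 12 - 1)) : False := by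
  have heq' : Nat.gcd 3 (2 ^ k + 1) * S = 2 ^ (k * 36) * (((2 ^ k) ^ 2 - 1) * ((2 ^ k) ^ 5 + 1) *
      ((2 ^ k) ^ 6 - 1) * ((2 ^ k) ^ 8 - 1) * ((2 ^ k) ^ 9 + 1) * ((2 ^ k) ^ 12 - 1)) := by
    rw [heq, pow_mul]; ring
  have h1 := h.r_dvd heq'
  rw [Nat.Prime.dvd_mul h.rp, Nat.Prime.dvd_mul h.rp, Nat.Prime.dvd_mul h.rp, Nat.Prime.dvd_mul h.rp,
    Nat.Prime.dvd_mul h.rp] at h1
  rcases h1 with ((((h1 | h1) | h1) | h1) | h1) | h1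
  · exact h.big hk (by norm_num) (odd_gcd' hk) heq' h1 (by norm_num)
  · exact h.big hk (by norm_num) (odd_gcd' hk) heq' (dvd_of_add h1) (by norm_num)
  · exact h.big hk (by norm_num) (odd_gcd' hk) heq' h1 (by norm_num)
  · exact h.big hk (by norm_num) (odd_gcd' hk) heq' h1 (by norm_num)
  · exact h.big hk (by norm_num) (odd_gcd' hk) heq' (dvd_of_add h1) (by norm_num)
  · exact h.big hk (by norm_num) (odd_gcd' hk) heq' h1 (by norm_num)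

theorem Ctx.tf4 (h : Ctx f r S) {k : ℕ} (hk : 1 ≤ k)
    (heq : S = (2 ^ k) ^ 12 * (2 ^ k - 1) * ((2 ^ k) ^ 3 + 1) * ((2 ^ k) ^ 4 - 1) * ((2 ^ k) ^ 6 + 1)) :
    k = f := by
  have heq' : 1 * S = 2 ^ (k * 12) * (((2 ^ k) ^ 1 - 1) * ((2 ^ k) ^ 3 + 1) * ((2 ^ k) ^ 4 - 1) *
      ((2 ^ k) ^ 6 + 1)) := by
    rw [heq, pow_mul, pow_one]; ring
  have h1 := h.r_dvd heq'
  rw [Nat.Prime.dvd_mul h.rp, Nat.Prime.dvd_mul h.rp, Nat.Prime.dvd_mul h.rp] at h1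
  rcases h1 with ((h1 | h1) | h1) | h1
  · exact (h.big hk (by norm_num) one_odd heq' h1 (by norm_num)).elim
  · exact (h.big hk (by norm_num) one_odd heq' (dvd_of_add h1) (by norm_num)).elim
  · exact (h.big hk (by norm_num) one_odd heq' h1 (by norm_num)).elim
  · obtain ⟨j, hj1, hj2, hj3⟩ := h.idx hk (e := 12) (by norm_num) one_odd heq' (dvd_of_add (e := 6) h1)
    obtain rfl : j = 1 := by omega
    omega

end Cfsg.Agent.H368.SCtx
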