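import Cfsg.Agent.H368.SEnd
import Cfsg.Agent.H478.WalterAll
import Cfsg.Agent.ClassicalGeometry.PSL2Basic
import Cfsg.Agent.NotCT.Orders

/-!
# The large Ree groups have elements of order 4
-/

set_option autoImplicit false

open Subgroup Cfsg Cfsg.Agent

namespace Cfsg.Agent.H368.SOrdFour

open Cfsg.Agent.H368.SNum Cfsg.Agent.H368.SEnd

/-- sizes of the factors of the order of `²F₄(q)` -/
theorem size {q : ℕ} (hq : 2 ≤ q) : (q - 1) * (q ^ 3 + 1) * (q ^ 4 - 1) * (q ^ 6 + 1) < q ^ 14 := by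
  obtain ⟨c, rfl⟩ : ∃ c, q = c + 2 := ⟨q - 2, by omega⟩
  have h1 : (c + 2 - 1) * ((c + 2) ^ 3 + 1) ≤ (c + 2) ^ 4 := by
    rw [show c + 2 - 1 = c + 1 by omega]
    nlinarith [sq_nonneg c, Nat.zero_le (c ^ 3)]
  have h2 : ((c + 2) ^ 4 - 1) * ((c + 2) ^ 6 + 1) < (c + 2) ^ 10 := by
    have h3 : (c + 2) ^ 4 < (c + 2) ^ 6 := Nat.pow_lt_pow_right (by omega) (by norm_num)
    have h4 : 0 < (c + 2) ^ 4 := by positivity
    obtain ⟨x, hx⟩ : ∃ x, (c + 2) ^ 4 = x + 1 := ⟨(c + 2) ^ 4 - 1, by omega⟩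
    have h5 : (c + 2) ^ 10 = (c + 2) ^ 4 * (c + 2) ^ 6 := by ring
    rw [h5, hx, Nat.add_sub_cancel]
    nlinarith
  calc (c + 2 - 1) * ((c + 2) ^ 3 + 1) * ((c + 2) ^ 4 - 1) * ((c + 2) ^ 6 + 1)
      = ((c + 2 - 1) * ((c + 2) ^ 3 + 1)) * (((c + 2) ^ 4 - 1) * ((c + 2) ^ 6 + 1)) := by ring
    _ ≤ (c + 2) ^ 4 * (((c + 2) ^ 4 - 1) * ((c + 2) ^ 6 + 1)) := Nat.mul_le_mul_right _ h1
    _ < (c + 2) ^ 4 * (c + 2) ^ 10 := Nat.mul_lt_mul_of_pos_left h2 (by positivity)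
    _ = _ := by ring

theorem exists_four {M : Type*} [Group M] [Finite M] [IsSimpleGroup M] (hna : ¬ IsMulCommutative M)
    (hM : Lie.Iso2F4 M) : ∃ x : M, orderOf x = 4 := by
  by_contra hcon
  push Not at hcon
  obtain ⟨m, hm, -, hc, h2⟩ := card_twoF4 hM
  set q := 2 ^ (2 * m + 1) with hq
  have hq2 : 2 ≤ q := by
    calc 2 = 2 ^ 1 := rfl
      _ ≤ 2 ^ (2 * m + 1) := Nat.pow_le_pow_right (by norm_num) (by omega)
  have h16 : 2 ^ 36 ∣ Nat.card M := by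
    rw [Nat.prime_two.pow_dvd_iff_le_factorization Nat.card_pos.ne']
    omega
  have h16' : 16 ∣ Nat.card M := (by norm_num : 16 ∣ 2 ^ 36).trans h16
  rcases H478.WalterAll.iso_of_exponent hna hcon with ⟨K, iK, iK', n, hn, hK, ⟨f⟩⟩ |
      ⟨K, iK, iK', hK, hK5, ⟨f⟩⟩ | hR' | hJ
  · have hcS : Nat.card M = 2 ^ n * ((2 ^ n) ^ 2 - 1) := by
      rw [Nat.card_congr f.toEquiv, ClassicalGeometry.PSL2Basic.card_PSL2_even (F := K) (by
        rw [hK]; exact (Nat.even_pow.2 ⟨even_two, by omega⟩)), hK]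
    have h3 : (Nat.card M).factorization 2 = n := by
      refine fac Nat.prime_two hcS ?_
      rw [← pow_mul]
      obtain ⟨b, hb⟩ : ∃ b, n * 2 = b + 1 := ⟨n * 2 - 1, by omega⟩
      rw [hb, pow_succ]
      have : 0 < 2 ^ b := by positivity
      omega
    have h4 : n = 12 * (2 * m + 1) := by omega
    rw [hcS, ← h4] at hc
    have h5 := Nat.eq_of_mul_eq_mul_left (by positivity) hc
    have h6 := size hq2
    rw [← h5, h4] at h6
    have h7 : (2 ^ (12 * (2 * m + 1))) ^ 2 = q ^ 24 := by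
      rw [hq, ← pow_mul, ← pow_mul]; ring_nf
    rw [h7] at h6
    have h8 : q ^ 24 = q ^ 14 * q ^ 10 := by ring
    have h9 : 2 ≤ q ^ 10 := hq2.trans (Nat.le_self_pow (by norm_num) q)
    have h10 : 0 < q ^ 14 := by positivity
    rw [h8] at h6
    have : q ^ 14 * 2 ≤ q ^ 14 * q ^ 10 := Nat.mul_le_mul_left _ h9
    omega
  · have hodd : Odd (Fintype.card K) := by rw [Nat.odd_iff]; omega
    have hcS : Nat.card M * 2 = Fintype.card K * (Fintype.card K ^ 2 - 1) := by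
      rw [Nat.card_congr f.toEquiv, ClassicalGeometry.PSL2Basic.card_PSL2_odd (F := K) hodd]
    obtain ⟨x, hx⟩ : ∃ x, Fintype.card K = 8 * x + 3 ∨ Fintype.card K = 8 * x + 5 :=
      ⟨Fintype.card K / 8, by omega⟩
    obtain ⟨y, hy⟩ := h16'
    rw [hy] at hcS
    rcases hx with hx | hx
    · have h3 : Fintype.card K * (Fintype.card K ^ 2 - 1) = 8 * ((8 * x + 3) * (8 * x ^ 2 + 6 * x + 1)) := by
        rw [hx]
        have : (8 * x + 3) ^ 2 = 8 * (8 * x ^ 2 + 6 * x + 1) + 1 := by ring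
        rw [this, Nat.add_sub_cancel]; ring
      rw [h3] at hcS
      have h4 : (8 * x + 3) * (8 * x ^ 2 + 6 * x + 1) = 2 * (32 * x ^ 3 + 36 * x ^ 2 + 13 * x + 1) + 1 := by ring
      omega
    · have h3 : Fintype.card K * (Fintype.card K ^ 2 - 1) = 8 * ((8 * x + 5) * (8 * x ^ 2 + 10 * x + 3)) := by
        rw [hx]
        have : (8 * x + 5) ^ 2 = 8 * (8 * x ^ 2 + 10 * x + 3) + 1 := by ring
        rw [this, Nat.add_sub_cancel]; ring
      rw [h3] at hcS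
      have h4 : (8 * x + 5) * (8 * x ^ 2 + 10 * x + 3) = 2 * (32 * x ^ 3 + 60 * x ^ 2 + 37 * x + 7) + 1 := by ring
      omega
  · obtain ⟨m', hm', -, -, -, h3⟩ := card_ree hR'
    omega
  · rw [NotCT.Orders.j1 hJ] at h16'
    omega

end Cfsg.Agent.H368.SOrdFour
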