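import Cfsg.Agent.H366.Coclique
import Cfsg.Agent.Classification.IdU.Gen
import Cfsg.Agent.Lib.SolvableMinNormal
import Cfsg.Agent.H366.AlmostSimple
import Cfsg.Agent.S4008

/-!
# Reduction to an almost simple group (for the Suzuki and Ree groups)

`P` is a set of primes, `r` a prime outside `P` not adjacent to the primes of `P`, and `a ℓ` is the
exponent of `ℓ` in `|G|` for `ℓ ∈ P ∪ {r}`.

* `Hyp.not_dvd` : a solvable normal subgroup has order prime to `P ∪ {r}`.
* `Hyp.quotient` : passing to the quotient.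
* `Hyp.dvd_simple` : `r` divides the order of a normal subgroup of even order (`2 ∈ P`).
* `Hyp.pow_index` : Frattini argument.
-/

set_option autoImplicit false

open Subgroup Cfsg.Agent Cfsg.Agent.H366 Cfsg.Agent.H366.Coclique

namespace Cfsg.Agent.H368.SRed

universe u

/-- the hypotheses on the group -/
structure Hyp (P : Set ℕ) (r : ℕ) (a : ℕ → ℕ) (G : Type*) [Group G] : Prop where
  pow : ∀ l, l ∈ P ∨ l = r → (Nat.card G).factorization l = a l
  na : ∀ p ∈ P, NA G p r
  sq : ∀ p ∈ P, ∀ k, 1 ≤ k → k ≤ a p → r ∣ p ^ k - 1 → k = a p ∧ ∃ g : G, orderOf g = p ^ 2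

/-- the numerical hypotheses -/
structure Num (P : Set ℕ) (r : ℕ) (a : ℕ → ℕ) : Prop where
  prime : ∀ p ∈ P, p.Prime
  rprime : r.Prime
  notMem : r ∉ P
  pos : 1 ≤ a r
  big : ∃ p ∈ P, r ^ a r ≤ p ^ a p

/-- no nontrivial element of a `q`-group commutes with an element of order `p` -/
theorem eq_one_of_comm {G : Type*} [Group G] [Finite G] {p q : ℕ} (hp : p.Prime) (hq : q.Prime)
    (hpq : p ≠ q) (h : NA G p q) {x y : G} (hx : orderOf x = p) (hy : ∃ k, y ^ q ^ k = 1)
    (hc : x * y = y * x) : y = 1 := by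
  by_contra hy1
  obtain ⟨k, hk⟩ := hy
  obtain ⟨j, _, hj⟩ := (Nat.dvd_prime_pow hq).1 (orderOf_dvd_of_pow_eq_one hk)
  have h1 : orderOf y ≠ 1 := by rwa [Ne, orderOf_eq_one_iff]
  have hqy : q ∣ orderOf y := by
    rw [hj]
    apply dvd_pow_self
    rintro rfl
    exact h1 (by rw [hj, pow_zero])
  have h2 : orderOf (y ^ (orderOf y / q)) = q := orderOf_pow_orderOf_div (orderOf_pos y).ne' hqy
  refine h.not_commute hp hq hpq hx h2 ?_
  have hcm : Commute x y := hc
  exact (hcm.pow_right _)

/-- two commuting elements of coprime prime power orders -/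
theorem eq_one_or {G : Type*} [Group G] [Finite G] {p q : ℕ} (hp : p.Prime) (hq : q.Prime)
    (hpq : p ≠ q) (h : NA G p q) {x y : G} (hx : ∃ k, x ^ p ^ k = 1) (hx1 : x ≠ 1)
    (hy : ∃ k, y ^ q ^ k = 1) (hc : x * y = y * x) : y = 1 := by
  obtain ⟨k, hk⟩ := hx
  obtain ⟨j, _, hj⟩ := (Nat.dvd_prime_pow hp).1 (orderOf_dvd_of_pow_eq_one hk)
  have h1 : orderOf x ≠ 1 := by rwa [Ne, orderOf_eq_one_iff]
  have hpx : p ∣ orderOf x := by
    rw [hj]
    apply dvd_pow_self
    rintro rfl
    exact h1 (by rw [hj, pow_zero])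
  have h2 : orderOf (x ^ (orderOf x / p)) = p := orderOf_pow_orderOf_div (orderOf_pos x).ne' hpx
  refine eq_one_of_comm hp hq hpq h h2 hy ?_
  have hcm : Commute x y := hc
  exact (hcm.pow_left _)

/-- an element of order `r` normalising a `p`-group acts without fixed points -/
theorem dvd_card_sub_one {G : Type*} [Group G] [Finite G] {p r : ℕ} (hp : p.Prime) (hr : r.Prime)
    (hpr : p ≠ r) (hna : NA G p r) (V : Subgroup G) (hV : IsPGroup p V) {x : G} (hx : orderOf x = r)
    (hn : ∀ v ∈ V, x * v * x⁻¹ ∈ V) : r ∣ Nat.card V - 1 := by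
  have hcx : Nat.card (zpowers x) = r := by rw [Nat.card_zpowers, hx]
  rw [← hcx]
  refine Classification.IdU.Gen.card_dvd_sub_one (zpowers x).subtype V ?_ ?_
  · rintro ⟨y, hy⟩ v hv
    have hxN : x ∈ normalizer (V : Set G) := mem_normalizer_fintype hn
    have hyN : y ∈ normalizer (V : Set G) := (zpowers_le.2 hxN) hy
    exact (mem_normalizer_iff.1 hyN v).1 hv
  · rintro ⟨y, hy⟩ hy1 v hv hc
    have hyr : orderOf y = r := by
      have h1 : orderOf y ∣ r := by
        rw [← hcx]
        exact Subgroup.orderOf_dvd_natCard _ hy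
      rcases (Nat.dvd_prime hr).1 h1 with h | h
      · exact absurd (Subtype.ext (orderOf_eq_one_iff.1 h)) hy1
      · exact h
    refine eq_one_of_comm hr hp (Ne.symm hpr) hna.symm hyr ?_ ?_
    · obtain ⟨k, hk⟩ := hV ⟨v, hv⟩
      exact ⟨k, congrArg Subtype.val hk⟩
    · change y * v * y⁻¹ = v at hc
      rwa [mul_inv_eq_iff_eq_mul] at hc

/-- a `p`-group normalising an `r`-group acts semiregularly -/
theorem card_dvd_sub_one' {G : Type*} [Group G] [Finite G] {p r : ℕ} (hp : p.Prime) (hr : r.Prime)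
    (hpr : p ≠ r) (hna : NA G p r) (V : Subgroup G) (hV : IsPGroup r V) (Q : Subgroup G)
    (hQ : IsPGroup p Q) (hn : Q ≤ normalizer (V : Set G)) : Nat.card Q ∣ Nat.card V - 1 := by
  refine Classification.IdU.Gen.card_dvd_sub_one Q.subtype V ?_ ?_
  · rintro ⟨y, hy⟩ v hv
    exact (mem_normalizer_iff.1 (hn hy) v).1 hv
  · rintro ⟨y, hy⟩ hy1 v hv hc
    refine eq_one_or (x := y) hp hr hpr hna ?_ (fun h => hy1 (Subtype.ext h)) ?_ ?_
    · obtain ⟨k, hk⟩ := hQ ⟨y, hy⟩
      exact ⟨k, congrArg Subtype.val hk⟩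
    · obtain ⟨k, hk⟩ := hV ⟨v, hv⟩
      exact ⟨k, congrArg Subtype.val hk⟩
    · change y * v * y⁻¹ = v at hc
      rwa [mul_inv_eq_iff_eq_mul] at hc

/-- element orders and quotients -/
theorem exists_orderOf_quotient {G : Type*} [Group G] [Finite G] (N : Subgroup G) [N.Normal] {n : ℕ}
    {x : G ⧸ N} (hx : orderOf x = n) : ∃ g : G, orderOf g = n := by
  obtain ⟨g, rfl⟩ := QuotientGroup.mk_surjective x
  have h1 : n ∣ orderOf g := by
    rw [← hx]
    exact orderOf_map_dvd (QuotientGroup.mk' N) g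
  have hn : n ≠ 0 := by rw [← hx]; exact (orderOf_pos _).ne'
  refine ⟨g ^ (orderOf g / n), ?_⟩
  exact orderOf_pow_orderOf_div (orderOf_pos g).ne' h1

theorem NA.quotient {G : Type*} [Group G] [Finite G] {a b : ℕ} (h : NA G a b) (N : Subgroup G)
    [N.Normal] : NA (G ⧸ N) a b := by
  intro x hx
  obtain ⟨g, hg⟩ := exists_orderOf_quotient N hx
  exact h g hg

variable {P : Set ℕ} {r : ℕ} {a : ℕ → ℕ}

theorem Hyp.quotient {G : Type*} [Group G] [Finite G] (h : Hyp P r a G) (hN : Num P r a)
    (N : Subgroup G) [N.Normal] (hd : ∀ l, l ∈ P ∨ l = r → ¬ l ∣ Nat.card N) :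
    Hyp P r a (G ⧸ N) where
  pow l hl := by
    rw [← h.pow l hl, Subgroup.card_eq_card_quotient_mul_card_subgroup N,
      Nat.factorization_mul Nat.card_pos.ne' Nat.card_pos.ne']
    simp [Nat.factorization_eq_zero_of_not_dvd (hd l hl)]
  na p hp := NA.quotient (h.na p hp) N
  sq p hp k h1 h2 h3 := by
    obtain ⟨hk, g, hg⟩ := h.sq p hp k h1 h2 h3
    refine ⟨hk, (g : G ⧸ N), ?_⟩
    have hpp := hN.prime p hp
    have h4 : orderOf (g : G ⧸ N) ∣ p ^ 2 := by
      rw [← hg]; exact orderOf_map_dvd (QuotientGroup.mk' N) g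
    obtain ⟨j, hj, hj2⟩ := (Nat.dvd_prime_pow hpp).1 h4
    have h5 : g ^ p ^ j ∈ N := by
      rw [← QuotientGroup.eq_one_iff, QuotientGroup.mk_pow, ← hj2, pow_orderOf_eq_one]
    have h6 : orderOf (g ^ p ^ j) ∣ Nat.card N := Subgroup.orderOf_dvd_natCard _ h5
    have h7 : orderOf (g ^ p ^ j) = p ^ (2 - j) := by
      rw [orderOf_pow_of_dvd (pow_ne_zero _ hpp.ne_zero) (by rw [hg]; exact pow_dvd_pow p hj), hg,
        Nat.pow_div hj hpp.pos]
    rw [hj2]
    congr 1
    by_contra hne
    apply hd p (Or.inl hp)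
    refine dvd_trans ?_ h6
    rw [h7]
    exact dvd_pow_self p (by omega)

/-- a Sylow `p`-subgroup cannot be elementary abelian and have an element of order `r` normalising it;
more generally there is no elementary abelian `p`-subgroup normalised by an element of order `r` -/
theorem Hyp.false_of_elem {G : Type*} [Group G] [Finite G] (h : Hyp P r a G) (hN : Num P r a) {p : ℕ}
    (hp : p ∈ P) (V : Subgroup G) (hV : IsPGroup p V) (hV1 : V ≠ ⊥) (hVp : ∀ v ∈ V, v ^ p = 1)
    {x : G} (hx : orderOf x = r) (hn : ∀ v ∈ V, x * v * x⁻¹ ∈ V) : False := by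
  have hpp := hN.prime p hp
  have : Fact p.Prime := ⟨hpp⟩
  have hpr : p ≠ r := by rintro rfl; exact hN.notMem hp
  have h1 := dvd_card_sub_one hpp hN.rprime hpr (h.na p hp) V hV hx hn
  obtain ⟨k, hk⟩ := IsPGroup.iff_card.1 hV
  have hk1 : 1 ≤ k := by
    rcases Nat.eq_zero_or_pos k with h0 | h0
    · exfalso
      apply hV1
      rw [h0, pow_zero] at hk
      exact Subgroup.eq_bot_of_card_eq V hk
    · exact h0
  have hka : k ≤ a p := by
    rw [← h.pow p (Or.inl hp), ← hpp.pow_dvd_iff_le_factorization Nat.card_pos.ne', ← hk]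
    exact Subgroup.card_subgroup_dvd_card V
  rw [hk] at h1
  obtain ⟨hk2, g, hg⟩ := h.sq p hp k hk1 hka h1
  -- `V` is a Sylow `p`-subgroup
  let S : Sylow p G := Sylow.ofCard V (by rw [hk, hk2, h.pow p (Or.inl hp)])
  have hgp : IsPGroup p (zpowers g) := by
    refine IsPGroup.of_card (n := 2) ?_
    rw [Nat.card_zpowers, hg]
  obtain ⟨T, hT⟩ := hgp.exists_le_sylow
  obtain ⟨y, hy⟩ := MulAction.exists_smul_eq G T S
  have h2 : y * g * y⁻¹ ∈ V := by
    have h3 : y * g * y⁻¹ ∈ (S : Subgroup G) := by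
      rw [← hy, Sylow.coe_subgroup_smul]
      exact Subgroup.smul_mem_pointwise_smul g (MulAut.conj y) _ (hT (mem_zpowers g))
    exact h3
  have h4 := hVp _ h2
  rw [conj_pow, mul_inv_eq_one, mul_eq_left] at h4
  have h5 := orderOf_dvd_of_pow_eq_one h4
  rw [hg] at h5
  have h6 := Nat.le_of_dvd hpp.pos h5
  have := hpp.one_lt
  nlinarith

/-- **A solvable normal subgroup has order prime to `P ∪ {r}`.** -/
theorem Hyp.not_dvd_aux (hN : Num P r a) (n : ℕ) : ∀ {G : Type u} [Group G] [Finite G], Nat.card G = n →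
    Hyp P r a G → ∀ N : Subgroup G, N.Normal → Group.IsSolvable N →
      ∀ l, l ∈ P ∨ l = r → ¬ l ∣ Nat.card N := by
  induction n using Nat.strong_induction_on with
  | _ n ih =>
    intro G _ _ hcard h N hNn hNs l hl hlN
    have hlp : l.Prime := by
      rcases hl with h1 | rfl
      · exact hN.prime l h1
      · exact hN.rprime
    have hnt : Nontrivial N := by
      rw [← not_subsingleton_iff_nontrivial]
      intro hsub
      rw [Nat.card_of_subsingleton (1 : N)] at hlN
      exact hlp.one_lt.ne' (Nat.dvd_one.1 hlN)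
    obtain ⟨q, hq, A, hAc, hAm, hAp, hA1⟩ :=
      Lib.SolvableMinNormal.exists_characteristic_pgroup (G := N)
    have : Fact q.Prime := ⟨hq⟩
    -- the elements of order dividing `q`
    let V : Subgroup G :=
      { carrier := {x | ∃ y ∈ A, (y : G) = x ∧ x ^ q = 1}
        one_mem' := ⟨1, A.one_mem, rfl, one_pow _⟩
        mul_mem' := by
          rintro _ _ ⟨x, hx, rfl, hx1⟩ ⟨y, hy, rfl, hy1⟩
          refine ⟨x * y, A.mul_mem hx hy, rfl, ?_⟩
          have hc : (x : G) * y = y * x := by
            have := hAm.is_comm.comm ⟨x, hx⟩ ⟨y, hy⟩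
            exact congrArg Subtype.val (congrArg Subtype.val this)
          rw [(show Commute (x : G) y from hc).mul_pow, hx1, hy1, one_mul]
        inv_mem' := by
          rintro _ ⟨x, hx, rfl, hx1⟩
          exact ⟨x⁻¹, A.inv_mem hx, rfl, by rw [inv_pow, hx1, inv_one]⟩ }
    have hVN : V ≤ N := by
      rintro _ ⟨y, hy, rfl, -⟩
      exact y.2
    have hVq : ∀ v ∈ V, v ^ q = 1 := by
      rintro _ ⟨y, hy, rfl, h1⟩
      exact h1
    have hVp : IsPGroup q V := fun v => ⟨1, by
      rw [pow_one]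
      exact Subtype.ext (hVq v v.2)⟩
    have hV1 : V ≠ ⊥ := by
      intro hbot
      apply hA1
      rw [eq_bot_iff]
      intro y hy
      rw [mem_bot]
      by_contra hy1
      obtain ⟨k, hk⟩ := hAp ⟨y, hy⟩
      have hk' : y ^ q ^ k = 1 := congrArg Subtype.val hk
      obtain ⟨j, _, hj⟩ := (Nat.dvd_prime_pow hq).1 (orderOf_dvd_of_pow_eq_one hk')
      have h1 : orderOf y ≠ 1 := by rwa [Ne, orderOf_eq_one_iff]
      have hqy : q ∣ orderOf y := by
        rw [hj]
        apply dvd_pow_self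
        rintro rfl
        exact h1 (by rw [hj, pow_zero])
      have h2 : orderOf (y ^ (orderOf y / q)) = q := orderOf_pow_orderOf_div (orderOf_pos y).ne' hqy
      have h3 : ((y ^ (orderOf y / q) : N) : G) ∈ V := by
        refine ⟨y ^ (orderOf y / q), A.pow_mem hy _, rfl, ?_⟩
        rw [← Subgroup.coe_pow]
        nth_rw 2 [← h2]
        rw [pow_orderOf_eq_one]
        rfl
      rw [hbot, mem_bot] at h3
      have h4 : y ^ (orderOf y / q) = 1 := Subtype.ext h3
      rw [h4, orderOf_one] at h2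
      exact hq.one_lt.ne h2
    have hVn : V.Normal := by
      refine ⟨?_⟩
      rintro _ ⟨y, hy, rfl, h1⟩ g
      have h2 : (⟨g * y * g⁻¹, hNn.conj_mem y y.2 g⟩ : N) ∈ A := by
        have := (Subgroup.characteristic_iff_map_le.1 hAc) (MulAut.conjNormal g)
          (mem_map_of_mem (MulAut.conjNormal g : N ≃* N).toMonoidHom hy)
        have h3 : (MulAut.conjNormal g : N ≃* N).toMonoidHom y = ⟨g * y * g⁻¹, hNn.conj_mem y y.2 g⟩ :=
          Subtype.ext (MulAut.conjNormal_apply g y)
        rwa [h3] at this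
      exact ⟨_, h2, rfl, by rw [conj_pow, h1, mul_one, mul_inv_cancel]⟩
    by_cases hqP : q ∈ P ∨ q = r
    · -- contradiction
      rcases hqP with hqP | rfl
      · have hrG : r ∣ Nat.card G := by
          have h1 := h.pow r (Or.inr rfl)
          by_contra h2
          rw [Nat.factorization_eq_zero_of_not_dvd h2] at h1
          have := hN.pos
          omega
        have : Fact r.Prime := ⟨hN.rprime⟩
        obtain ⟨x, hx⟩ := exists_prime_orderOf_dvd_card' (G := G) r hrG
        exact h.false_of_elem hN hqP V hVp hV1 hVq hx fun v hv => hVn.conj_mem v hv x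
      · obtain ⟨p, hp, hbig⟩ := hN.big
        have hpp := hN.prime p hp
        have : Fact p.Prime := ⟨hpp⟩
        obtain ⟨Q⟩ : Nonempty (Sylow p G) := inferInstance
        have hpr : p ≠ q := by rintro rfl; exact hN.notMem hp
        have h1 := card_dvd_sub_one' hpp hq hpr (h.na p hp) V hVp (Q : Subgroup G) Q.isPGroup'
          (by rw [normalizer_eq_top]; exact le_top)
        rw [Q.card_eq_multiplicity, h.pow p (Or.inl hp)] at h1
        obtain ⟨k, hk⟩ := IsPGroup.iff_card.1 hVp
        have hVc : 1 < Nat.card V := (Subgroup.one_lt_card_iff_ne_bot V).2 hV1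
        have h2 := Nat.le_of_dvd (by omega) h1
        have h3 : Nat.card V ≤ q ^ a q := by
          rw [hk]
          apply Nat.pow_le_pow_right hq.pos
          rw [← h.pow q (Or.inr rfl), ← hq.pow_dvd_iff_le_factorization Nat.card_pos.ne', ← hk]
          exact Subgroup.card_subgroup_dvd_card V
        omega
    · -- pass to the quotient
      have hcop : ∀ m, m ∈ P ∨ m = r → ¬ m ∣ Nat.card V := by
        intro m hm hmV
        have hmp : m.Prime := by
          rcases hm with h1 | rfl
          · exact hN.prime m h1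
          · exact hN.rprime
        obtain ⟨k, hk⟩ := IsPGroup.iff_card.1 hVp
        rw [hk] at hmV
        have h1 := (Nat.prime_dvd_prime_iff_eq hmp hq).1 (hmp.dvd_of_dvd_pow hmV)
        rw [← h1] at hqP
        exact hqP hm
      have hq' := h.quotient hN V hcop
      have hlt : Nat.card (G ⧸ V) < n := by
        rw [← hcard, Subgroup.card_eq_card_quotient_mul_card_subgroup V]
        have h1 := (Subgroup.one_lt_card_iff_ne_bot V).2 hV1
        have h2 : 0 < Nat.card (G ⧸ V) := Nat.card_pos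
        nlinarith
      have hs : Group.IsSolvable (N.map (QuotientGroup.mk' V)) :=
        Group.isSolvable_of_surjective ((QuotientGroup.mk' V).subgroupMap_surjective N)
      refine ih _ hlt rfl hq' (N.map (QuotientGroup.mk' V))
        (hNn.map _ (QuotientGroup.mk'_surjective V)) hs l hl ?_
      have h1 : Nat.card N = Nat.card (N.map (QuotientGroup.mk' V)) * Nat.card V := by
        rw [← relIndex_ker, QuotientGroup.ker_mk', ← relIndex_bot_left N, ← relIndex_bot_left V,
          mul_comm]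
        exact (relIndex_mul_relIndex ⊥ V N bot_le hVN).symm
      rw [h1] at hlN
      rcases (Nat.Prime.dvd_mul hlp).1 hlN with h2 | h2
      · exact h2
      · exact absurd h2 (hcop l hl)

theorem Hyp.not_dvd {G : Type*} [Group G] [Finite G] (h : Hyp P r a G) (hN : Num P r a)
    (N : Subgroup G) (hNn : N.Normal) (hs : Group.IsSolvable N) (l : ℕ) (hl : l ∈ P ∨ l = r) :
    ¬ l ∣ Nat.card N :=
  Hyp.not_dvd_aux hN _ rfl h N hNn hs l hl

theorem Hyp.dvd_card {G : Type*} [Group G] [Finite G] (h : Hyp P r a G) (hN : Num P r a) :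
    r ∣ Nat.card G := by
  have h1 := h.pow r (Or.inr rfl)
  by_contra h2
  rw [Nat.factorization_eq_zero_of_not_dvd h2] at h1
  have := hN.pos
  omega

/-- Frattini argument: the index -/
theorem index_dvd_card_normalizer {G : Type*} [Group G] [Finite G] (S : Subgroup G) [S.Normal] {p : ℕ}
    [Fact p.Prime] (T : Sylow p S) :
    S.index ∣ Nat.card (normalizer (((T : Subgroup S).map S.subtype : Subgroup G) : Set G)) := by
  have h1 := Sylow.normalizer_sup_eq_top T
  have h2 := relIndex_sup_right (normalizer (((T : Subgroup S).map S.subtype : Subgroup G) : Set G)) S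
  rw [h1, relIndex_top_right] at h2
  rw [h2]
  exact relIndex_dvd_card _ _

theorem exists_central_elem {G : Type*} [Group G] [Finite G] {p : ℕ} [hp : Fact p.Prime] (T : Subgroup G)
    (hT : IsPGroup p T) (hT1 : T ≠ ⊥) : ∃ V : Subgroup G, V ≤ T ∧ V ≠ ⊥ ∧ (∀ v ∈ V, v ^ p = 1) ∧
      normalizer (T : Set G) ≤ normalizer (V : Set G) := by
  let V : Subgroup G :=
    { carrier := {x | x ∈ T ∧ (∀ y ∈ T, x * y = y * x) ∧ x ^ p = 1}
      one_mem' := ⟨T.one_mem, fun y _ => by simp, one_pow _⟩
      mul_mem' := by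
        rintro x y ⟨hx, hx1, hx2⟩ ⟨hy, hy1, hy2⟩
        refine ⟨T.mul_mem hx hy, ?_, ?_⟩
        · intro z hz
          rw [mul_assoc, hy1 z hz, ← mul_assoc, hx1 z hz, mul_assoc]
        · rw [(show Commute x y from hx1 y hy).mul_pow, hx2, hy2, one_mul]
      inv_mem' := by
        rintro x ⟨hx, hx1, hx2⟩
        refine ⟨T.inv_mem hx, ?_, by rw [inv_pow, hx2, inv_one]⟩
        intro y hy
        exact ((show Commute x y from hx1 y hy).inv_left).eq }
  refine ⟨V, fun x hx => hx.1, ?_, fun v hv => hv.2.2, ?_⟩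
  · have : Nontrivial T := (Subgroup.nontrivial_iff_ne_bot T).2 hT1
    have hc : Nontrivial (center T) := hT.center_nontrivial
    obtain ⟨k, hk⟩ := IsPGroup.iff_card.1 (hT.to_subgroup (center T))
    have h1 : 1 < Nat.card (center T) := Finite.one_lt_card
    have h2 : p ∣ Nat.card (center T) := by
      rw [hk] at h1 ⊢
      apply dvd_pow_self
      rintro rfl
      simp at h1
    obtain ⟨z, hz⟩ := exists_prime_orderOf_dvd_card' (G := center T) p h2
    intro hbot
    have h3 : ((z : T) : G) ∈ V := by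
      refine ⟨z.1.2, ?_, ?_⟩
      · intro y hy
        have := (mem_center_iff.1 z.2) ⟨y, hy⟩
        exact (congrArg Subtype.val this).symm
      · have h4 : (z : center T) ^ p = 1 := by rw [← hz, pow_orderOf_eq_one]
        exact congrArg (fun w : center T => ((w : T) : G)) h4
    rw [hbot, mem_bot] at h3
    have h4 : z = 1 := Subtype.ext (Subtype.ext h3)
    rw [h4, orderOf_one] at hz
    exact hp.out.one_lt.ne hz
  · intro g hg
    apply mem_normalizer_fintype
    rintro x ⟨hx, hx1, hx2⟩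
    refine ⟨(mem_normalizer_iff.1 hg x).1 hx, ?_, by rw [conj_pow, hx2, mul_one, mul_inv_cancel]⟩
    intro y hy
    have h1 : g⁻¹ * y * g ∈ T := by
      apply (mem_normalizer_iff.1 hg _).2
      have : g * (g⁻¹ * y * g) * g⁻¹ = y := by group
      rwa [this]
    have h2 := hx1 _ h1
    calc g * x * g⁻¹ * y = g * (x * (g⁻¹ * y * g)) * g⁻¹ := by group
      _ = g * (g⁻¹ * y * g * x) * g⁻¹ := by rw [h2]
      _ = y * (g * x * g⁻¹) := by group

/-- **`r` divides the order of a normal subgroup of order divisible by some `p ∈ P`.** -/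
theorem Hyp.dvd_normal {G : Type*} [Group G] [Finite G] (h : Hyp P r a G) (hN : Num P r a)
    (S : Subgroup G) [S.Normal] {p : ℕ} (hp : p ∈ P) (hpS : p ∣ Nat.card S) : r ∣ Nat.card S := by
  by_contra hrS
  have hpp := hN.prime p hp
  have : Fact p.Prime := ⟨hpp⟩
  have : Fact r.Prime := ⟨hN.rprime⟩
  obtain ⟨T⟩ : Nonempty (Sylow p S) := inferInstance
  set T' : Subgroup G := (T : Subgroup S).map S.subtype with hT'
  have h1 := index_dvd_card_normalizer S T
  have h2 : r ∣ S.index := by
    have h3 := h.dvd_card hN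
    rw [← Subgroup.card_mul_index S] at h3
    exact ((Nat.Prime.dvd_mul hN.rprime).1 h3).resolve_left hrS
  obtain ⟨x, hx⟩ := exists_prime_orderOf_dvd_card' (G := normalizer (T' : Set G)) r (h2.trans h1)
  have hTp : IsPGroup p T' := T.isPGroup'.map _
  have hT1 : T' ≠ ⊥ := by
    intro h3
    rw [hT', Subgroup.map_eq_bot_iff_of_injective _ S.subtype_injective] at h3
    exact T.ne_bot_of_dvd_card hpS h3
  obtain ⟨V, hVT, hV1, hVp, hVn⟩ := exists_central_elem T' hTp hT1
  refine h.false_of_elem hN hp V (hTp.to_le hVT) hV1 hVp (x := (x : G)) (by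
    rw [Subgroup.orderOf_coe, hx]) fun v hv => ?_
  exact (mem_normalizer_iff.1 (hVn x.2) v).1 hv

/-- **Frattini argument.** -/
theorem Hyp.pow_index {G : Type*} [Group G] [Finite G] (h : Hyp P r a G) (hN : Num P r a)
    (S : Subgroup G) [S.Normal] (hrS : r ∣ Nat.card S) {p : ℕ} (hp : p ∈ P) :
    p ^ S.index.factorization p < r ^ a r := by
  have hpp := hN.prime p hp
  have : Fact p.Prime := ⟨hpp⟩
  have : Fact r.Prime := ⟨hN.rprime⟩
  have hpr : p ≠ r := by rintro rfl; exact hN.notMem hp
  obtain ⟨T⟩ : Nonempty (Sylow r S) := inferInstance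
  set T' : Subgroup G := (T : Subgroup S).map S.subtype with hT'
  have h1 := index_dvd_card_normalizer S T
  have hTp : IsPGroup r T' := T.isPGroup'.map _
  have hT1 : T' ≠ ⊥ := by
    intro h3
    rw [hT', Subgroup.map_eq_bot_iff_of_injective _ S.subtype_injective] at h3
    exact T.ne_bot_of_dvd_card hrS h3
  -- a Sylow `p`-subgroup of the normalizer
  obtain ⟨Q⟩ : Nonempty (Sylow p (normalizer (T' : Set G))) := inferInstance
  set Q' : Subgroup G := (Q : Subgroup _).map (normalizer (T' : Set G)).subtype with hQ'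
  have hQc : Nat.card Q' = p ^ (Nat.card (normalizer (T' : Set G))).factorization p := by
    rw [hQ', Subgroup.card_map_of_injective (Subgroup.subtype_injective _)]
    exact Q.card_eq_multiplicity
  have h2 := card_dvd_sub_one' hpp hN.rprime hpr (h.na p hp) T' hTp Q' (Q.isPGroup'.map _) (by
    rw [hQ']
    exact map_subtype_le _)
  have hTc : 1 < Nat.card T' := (Subgroup.one_lt_card_iff_ne_bot T').2 hT1
  have h3 := Nat.le_of_dvd (by omega) h2
  obtain ⟨k, hk⟩ := IsPGroup.iff_card.1 hTp
  have h4 : Nat.card T' ≤ r ^ a r := by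
    rw [hk]
    apply Nat.pow_le_pow_right hN.rprime.pos
    rw [← h.pow r (Or.inr rfl), ← hN.rprime.pow_dvd_iff_le_factorization Nat.card_pos.ne', ← hk]
    exact Subgroup.card_subgroup_dvd_card T'
  have h5 : p ^ S.index.factorization p ≤ Nat.card Q' := by
    rw [hQc]
    apply Nat.pow_le_pow_right hpp.pos
    exact (Nat.factorization_le_iff_dvd S.index_ne_zero_of_finite Nat.card_pos.ne').2 h1 p
  omega

/-- **Reduction to an almost simple group.** -/
theorem Hyp.exists_simple {G : Type*} [Group G] [Finite G] (h : Hyp P r a G) (hN : Num P r a)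
    (h2 : 2 ∈ P) (h2a : 1 ≤ a 2) :
    ∃ (R : Subgroup G) (_ : R.Normal), (∀ l, l ∈ P ∨ l = r → ¬ l ∣ Nat.card R) ∧ Hyp P r a (G ⧸ R) ∧
      ∃ S : Subgroup (G ⧸ R), S.Normal ∧ IsSimpleGroup S ∧ ¬ IsMulCommutative S ∧
        centralizer (S : Set (G ⧸ R)) = ⊥ := by
  obtain ⟨R, hRn, hRs, hR⟩ := AlmostSimple.exists_radical G
  have hmax : ∀ N : Subgroup G, N.Normal → Group.IsSolvable N → N ≤ R := by
    intro N hNn hNs
    have hs : Group.IsSolvable (N.map (QuotientGroup.mk' R)) :=
      Group.isSolvable_of_surjective ((QuotientGroup.mk' R).subgroupMap_surjective N)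
    have h1 := hR _ (hNn.map _ (QuotientGroup.mk'_surjective R)) hs
    rwa [Subgroup.map_eq_bot_iff, QuotientGroup.ker_mk'] at h1
  have hd := h.not_dvd hN R hRn hRs
  have hns : ¬ Group.IsSolvable G := by
    intro hs
    have : Group.IsSolvable (⊤ : Subgroup G) := inferInstance
    have h1 := h.not_dvd hN ⊤ inferInstance this r (Or.inr rfl)
    rw [Subgroup.card_top] at h1
    exact h1 (h.dvd_card hN)
  have heven : Even (Nat.card G) := by
    rw [even_iff_two_dvd]
    by_contra h3
    have h1 := h.pow 2 (Or.inl h2)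
    rw [Nat.factorization_eq_zero_of_not_dvd h3] at h1
    omega
  have hr2 : r ≠ 2 := by rintro rfl; exact hN.notMem h2
  have h4 := S4008.result hns heven r hN.rprime hr2 (h.dvd_card hN) (h.na 2 h2) R hRs hmax
  exact ⟨R, hRn, hd, h.quotient hN R hd, h4⟩

end Cfsg.Agent.H368.SRed
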